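import Mathlib.Tactic.LinearCombination
import Mathlib.Tactic.Linarith
import Mathlib.Tactic.IntervalCases
import Mathlib.Tactic.Ring

/-!
# The arithmetic of the theorem on groups with an involution centraliser `GL(2,3)`
-/

set_option autoImplicit false

namespace Cfsg.Agent.GLTwoThree

theorem divisors_1728_aux : ∀ a < 42, ∀ b < 42, 42 * a + b ∣ 1728 →
    42 * a + b ∈ [1, 2, 3, 4, 6, 8, 9, 12, 16, 18, 24, 27, 32, 36, 48, 54, 64, 72, 96, 108, 144, 192, 216,
      288, 432, 576, 864, 1728] := by decide +kernel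

theorem divisors_6912_aux : ∀ a < 84, ∀ b < 84, 84 * a + b ∣ 6912 →
    84 * a + b ∈ [1, 2, 3, 4, 6, 8, 9, 12, 16, 18, 24, 27, 32, 36, 48, 54, 64, 72, 96, 108, 128, 144, 192, 216,
      256, 288, 384, 432, 576, 768, 864, 1152, 1728, 2304, 3456, 6912] := by decide +kernel

theorem divisors_1728 (n : ℕ) (h : n < 1729) (hd : n ∣ 1728) :
    n ∈ [1, 2, 3, 4, 6, 8, 9, 12, 16, 18, 24, 27, 32, 36, 48, 54, 64, 72, 96, 108, 144, 192, 216,
      288, 432, 576, 864, 1728] := by
  have := divisors_1728_aux (n / 42) (by omega) (n % 42) (Nat.mod_lt _ (by norm_num))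
  rw [Nat.div_add_mod] at this
  exact this hd

theorem divisors_6912 (n : ℕ) (h : n < 6913) (hd : n ∣ 6912) :
    n ∈ [1, 2, 3, 4, 6, 8, 9, 12, 16, 18, 24, 27, 32, 36, 48, 54, 64, 72, 96, 108, 128, 144, 192, 216,
      256, 288, 384, 432, 576, 768, 864, 1152, 1728, 2304, 3456, 6912] := by
  have := divisors_6912_aux (n / 84) (by omega) (n % 84) (Nat.mod_lt _ (by norm_num))
  rw [Nat.div_add_mod] at this
  exact this hd

theorem first_values {m x : ℤ} (hm : Odd m) (h : m * x ^ 2 = 288 * ((x + 2) * (x + 3))) :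
    m = 135 ∨ m = 231 ∨ m = 351 ∨ m = 495 := by
  obtain ⟨j, rfl⟩ := hm
  have hx : x ∣ 1728 := ⟨(2 * j + 1) * x - 288 * (x + 5), by linear_combination (-1 : ℤ) * h⟩
  have hn : x.natAbs ∣ 1728 := by simpa using Int.natAbs_dvd_natAbs.mpr hx
  have hmem := divisors_1728 x.natAbs (Nat.lt_succ_of_le (Nat.le_of_dvd (by norm_num) hn)) hn
  simp only [List.mem_cons, List.not_mem_nil, or_false] at hmem
  rcases hmem with e | e | e | e | e | e | e | e | e | e | e | e | e | e | e | e | e | e | e | e |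
    e | e | e | e | e | e | e | e <;>
    rcases Int.natAbs_eq x with hs | hs <;> rw [e] at hs <;> subst hs <;>
    norm_num at h <;> omega

theorem second_values {m y : ℤ} (hm : Odd m) (h : m * y ^ 2 = 576 * ((y + 3) * (y + 4))) :
    m = 351 ∨ m = 495 ∨ m = 663 ∨ m = 855 := by
  obtain ⟨j, rfl⟩ := hm
  have hy : y ∣ 6912 := ⟨(2 * j + 1) * y - 576 * (y + 7), by linear_combination (-1 : ℤ) * h⟩
  have hn : y.natAbs ∣ 6912 := by simpa using Int.natAbs_dvd_natAbs.mpr hy
  have hmem := divisors_6912 y.natAbs (Nat.lt_succ_of_le (Nat.le_of_dvd (by norm_num) hn)) hn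
  simp only [List.mem_cons, List.not_mem_nil, or_false] at hmem
  rcases hmem with e | e | e | e | e | e | e | e | e | e | e | e | e | e | e | e | e | e | e | e |
    e | e | e | e | e | e | e | e | e | e | e | e | e | e | e | e <;>
    rcases Int.natAbs_eq y with hs | hs <;> rw [e] at hs <;> subst hs <;>
    norm_num at h <;> omega

/-- The only orders compatible with both counting equations. -/
theorem order_cases {g : ℕ} (h16 : 16 ∣ g) (h32 : ¬ 32 ∣ g) {a b : ℤ}
    (ha : 4608 * (a * (a + 1)) = (g : ℤ) * (a - 2) ^ 2)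
    (hb : 9216 * (b * (b + 1)) = (g : ℤ) * (b - 3) ^ 2) : g = 5616 ∨ g = 7920 := by
  obtain ⟨m, rfl⟩ := h16
  have hm : Odd (m : ℤ) := by
    rw [Int.odd_coe_nat, Nat.odd_iff]
    omega
  have h1 : (m : ℤ) * (a - 2) ^ 2 = 288 * ((a - 2 + 2) * (a - 2 + 3)) := by
    push_cast at ha
    linarith [ha]
  have h2 : (m : ℤ) * (b - 3) ^ 2 = 576 * ((b - 3 + 3) * (b - 3 + 4)) := by
    push_cast at hb
    linarith [hb]
  have h3 := first_values hm h1
  have h4 := second_values hm h2
  omega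

end Cfsg.Agent.GLTwoThree
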