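import Mathlib.Algebra.Order.BigOperators.Group.Finset
import Mathlib.Algebra.BigOperators.Fin
import Mathlib.Data.Fintype.BigOperators
import Mathlib.Data.Rat.Defs
import Mathlib.Tactic.Linarith
import Mathlib.Tactic.Ring
import Mathlib.Tactic.FinCases

/-!
# The decompositions forced by the inner products
-/

set_option autoImplicit false

namespace Cfsg.Agent.GLTwoThree.Extract

variable {ι : Type*} [Fintype ι] [DecidableEq ι]

theorem sign_of_sq {x : ℤ} (h : x * x ≤ 3) : x = -1 ∨ x = 0 ∨ x = 1 := by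
  have h1 : -1 ≤ x := by nlinarith
  have h2 : x ≤ 1 := by nlinarith
  omega

theorem entry_le {v : ι → ℤ} (i : ι) : v i * v i ≤ ∑ j, v j * v j :=
  Finset.single_le_sum (f := fun j => v j * v j) (fun j _ => mul_self_nonneg _) (Finset.mem_univ i)

theorem two_support {v : ι → ℤ} (h : ∑ j, v j * v j = 2) :
    ∃ P Q, P ≠ Q ∧ (v P = 1 ∨ v P = -1) ∧ (v Q = 1 ∨ v Q = -1) ∧
      ∀ j, j ≠ P → j ≠ Q → v j = 0 := by
  have hs : ∀ j, v j = -1 ∨ v j = 0 ∨ v j = 1 := fun j =>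
    sign_of_sq (by linarith [entry_le (v := v) j])
  have hsum : ((Finset.univ.filter fun j => v j ≠ 0).card : ℤ) = 2 := by
    rw [← h, Finset.natCast_card_filter]
    exact Finset.sum_congr rfl fun j _ => by rcases hs j with e | e | e <;> simp [e]
  obtain ⟨P, Q, hPQ, he⟩ := Finset.card_eq_two.mp (by exact_mod_cast hsum)
  have hP : v P ≠ 0 := (Finset.mem_filter.mp (by rw [he]; exact Finset.mem_insert_self P {Q} : P ∈ Finset.univ.filter fun j => v j ≠ 0)).2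
  have hQ : v Q ≠ 0 :=
    (Finset.mem_filter.mp (by rw [he]; exact Finset.mem_insert_of_mem (Finset.mem_singleton_self Q) :
      Q ∈ Finset.univ.filter fun j => v j ≠ 0)).2
  refine ⟨P, Q, hPQ, ?_, ?_, fun j hjP hjQ => ?_⟩
  · have := hs P; omega
  · have := hs Q; omega
  · by_contra hj
    have : j ∈ ({P, Q} : Finset ι) := he ▸ Finset.mem_filter.mpr ⟨Finset.mem_univ _, hj⟩
    simp [hjP, hjQ] at this

theorem three_support {v : ι → ℤ} {i₀ : ι} (h0 : v i₀ = 1) (h : ∑ j, v j * v j = 3) :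
    ∃ P Q, P ≠ Q ∧ P ≠ i₀ ∧ Q ≠ i₀ ∧ (v P = 1 ∨ v P = -1) ∧ (v Q = 1 ∨ v Q = -1) ∧
      ∀ j, j ≠ i₀ → j ≠ P → j ≠ Q → v j = 0 := by
  have h' : ∑ j, Function.update v i₀ 0 j * Function.update v i₀ 0 j = 2 := by
    rw [← Finset.add_sum_erase _ _ (Finset.mem_univ i₀), h0] at h
    rw [← Finset.add_sum_erase _ _ (Finset.mem_univ i₀)]
    simp only [Function.update_self, mul_zero, zero_add]
    rw [Finset.sum_congr rfl fun j hj => by
      rw [Function.update_of_ne (Finset.ne_of_mem_erase hj)]]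
    linarith
  obtain ⟨P, Q, hPQ, hP, hQ, hrest⟩ := two_support h'
  have hP0 : P ≠ i₀ := fun e => by simp [e] at hP
  have hQ0 : Q ≠ i₀ := fun e => by simp [e] at hQ
  rw [Function.update_of_ne hP0] at hP
  rw [Function.update_of_ne hQ0] at hQ
  refine ⟨P, Q, hPQ, hP0, hQ0, hP, hQ, fun j hj hjP hjQ => ?_⟩
  have := hrest j hjP hjQ
  rwa [Function.update_of_ne hj] at this

theorem sum_two {M : Type*} [AddCommMonoid M] {f : ι → M} {P Q : ι} (hPQ : P ≠ Q)
    (h : ∀ j, j ≠ P → j ≠ Q → f j = 0) : ∑ j, f j = f P + f Q := by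
  rw [← Finset.sum_pair hPQ]
  refine (Finset.sum_subset (Finset.subset_univ _) fun j _ hj => ?_).symm
  simp only [Finset.mem_insert, Finset.mem_singleton, not_or] at hj
  exact h j hj.1 hj.2

theorem sum_three {M : Type*} [AddCommMonoid M] {f : ι → M} {i P Q : ι} (hP : P ≠ i) (hQ : Q ≠ i)
    (hPQ : P ≠ Q) (h : ∀ j, j ≠ i → j ≠ P → j ≠ Q → f j = 0) :
    ∑ j, f j = f i + (f P + f Q) := by
  rw [← Finset.add_sum_erase _ _ (Finset.mem_univ i)]
  refine congrArg _ ?_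
  rw [← Finset.sum_pair hPQ]
  refine (Finset.sum_subset ?_ fun j hj hj' => ?_).symm
  · intro j hj
    rcases Finset.mem_insert.mp hj with rfl | hj
    · exact Finset.mem_erase.mpr ⟨hP, Finset.mem_univ _⟩
    · rw [Finset.mem_singleton.mp hj]; exact Finset.mem_erase.mpr ⟨hQ, Finset.mem_univ _⟩
  · simp only [Finset.mem_insert, Finset.mem_singleton, not_or] at hj'
    exact h j (Finset.ne_of_mem_erase hj) hj'.1 hj'.2

theorem four_le {v : ι → ℤ} {A B C D : ι} (h1 : A ≠ B) (h2 : A ≠ C) (h3 : A ≠ D) (h4 : B ≠ C)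
    (h5 : B ≠ D) (h6 : C ≠ D) :
    v A * v A + v B * v B + v C * v C + v D * v D ≤ ∑ j, v j * v j := by
  refine le_trans (le_of_eq ?_) (Finset.sum_le_sum_of_subset_of_nonneg
    (Finset.subset_univ {A, B, C, D}) fun j _ _ => mul_self_nonneg _)
  simp [h1, h2, h3, h4, h5, h6]
  ring

/-- The data of five integral vectors. -/
structure Data (i₀ : ι) (d : ι → ℕ) (a : Fin 5 → ι → ℤ) : Prop where
  d_zero : d i₀ = 1
  d_pos : ∀ j, 0 < d j
  d_one : ∀ j, d j = 1 → j = i₀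
  a_zero : ∀ k, a k i₀ = ![1, 1, 0, 0, 0] k
  deg : ∀ k, ∑ j, a k j * (d j : ℤ) = 0
  gram : ∀ k l, ∑ j, a k j * a l j =
    ![![3, 1, 0, 1, -1], ![1, 3, 0, 0, 1], ![0, 0, 2, -1, 0], ![1, 0, -1, 2, 0], ![-1, 1, 0, 0, 3]] k l

/-- The value at the involution. -/
def T (a : Fin 5 → ι → ℤ) (j : ι) : ℤ :=
  -2 * a 0 j + 3 * a 1 j + 2 * a 2 j + 4 * a 3 j + a 4 j

theorem conclude {p q s s' : ℤ} (hp : 0 < p) (hq : 0 < q) (hs : s = 1 ∨ s = -1)
    (hs' : s' = 1 ∨ s' = -1) (hdeg : 1 + s * p + s' * q = 0) (α β : ℚ) :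
    s * p ≠ 0 ∧ s * p + 1 ≠ 0 ∧
      1 + ((s : ℚ) * α / (p : ℚ) + (s' : ℚ) * β / (q : ℚ)) =
        1 + α / ((s * p : ℤ) : ℚ) - β / ((s * p + 1 : ℤ) : ℚ) := by
  have h1 : s * p + 1 = -(s' * q) := by linarith
  refine ⟨?_, ?_, ?_⟩
  · rcases hs with rfl | rfl <;> omega
  · rw [h1]; rcases hs' with rfl | rfl <;> omega
  rw [h1]
  rcases hs with rfl | rfl <;> rcases hs' with rfl | rfl <;> push_cast <;>
    simp only [one_mul, neg_one_mul, neg_neg, div_neg, neg_div, neg_mul] <;> ring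

variable {i₀ : ι} {d : ι → ℕ} {a : Fin 5 → ι → ℤ}

theorem first (D : Data i₀ d a) :
    ∃ P Q R S : ι, ∃ s s' : ℤ, (s = 1 ∨ s = -1) ∧ (s' = 1 ∨ s' = -1) ∧ P ≠ i₀ ∧ Q ≠ i₀ ∧ R ≠ i₀ ∧
      S ≠ i₀ ∧ P ≠ Q ∧ P ≠ R ∧ P ≠ S ∧ Q ≠ R ∧ Q ≠ S ∧ R ≠ S ∧
      (a 0 P = s ∧ a 0 Q = s' ∧ ∀ j, j ≠ i₀ → j ≠ P → j ≠ Q → a 0 j = 0) ∧
      (a 3 P = s ∧ a 3 R = -s ∧ ∀ j, j ≠ P → j ≠ R → a 3 j = 0) ∧
      (a 2 R = s ∧ ∀ j, j ≠ R → j ≠ S → a 2 j = 0) ∧ (a 2 S = 1 ∨ a 2 S = -1) := by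
  have g : ∀ k, a k i₀ = _ := D.a_zero
  obtain ⟨P, Q, hPQ, hP0, hQ0, hP, hQ, hrest⟩ :=
    three_support (v := a 0) (i₀ := i₀) (g 0) (D.gram 0 0)
  -- name the constituent shared with the fourth vector
  have h03 : ∑ j, a 0 j * a 3 j = 1 := D.gram 0 3
  rw [sum_three hP0 hQ0 hPQ (fun j h1 h2 h3 => by rw [hrest j h1 h2 h3, zero_mul]),
    show a 3 i₀ = 0 from g 3, mul_zero, zero_add] at h03
  have hn3 : ∑ j, a 3 j * a 3 j = 2 := D.gram 3 3
  wlog hQ3 : a 3 Q = 0 generalizing P Q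
  · refine this Q P hPQ.symm hQ0 hP0 hQ hP (fun j h1 h2 h3 => hrest j h1 h3 h2) (by linarith) ?_
    rcases sign_of_sq (x := a 3 P) (by linarith [entry_le (v := a 3) P]) with e | e | e <;>
      rcases sign_of_sq (x := a 3 Q) (by linarith [entry_le (v := a 3) Q]) with e' | e' | e' <;>
        rcases hP with hP | hP <;> rcases hQ with hQ | hQ <;>
          (rw [hP, hQ, e, e'] at h03; omega)
  rw [hQ3, mul_zero, add_zero] at h03
  have hP3 : a 3 P = a 0 P := by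
    rcases hP with hP | hP <;> rw [hP] at h03 ⊢ <;> linarith
  obtain ⟨A, B, hAB, hA, hB, hrest3⟩ := two_support hn3
  wlog hAP : A = P generalizing A B
  · refine this B A hAB.symm hB hA (fun j h1 h2 => hrest3 j h2 h1) ?_
    by_contra hBP
    have := hrest3 P (Ne.symm hAP) (Ne.symm hBP)
    rw [hP3] at this
    omega
  subst hAP
  rename_i hAB _
  have hB0 : B ≠ i₀ := fun e => by
    rw [e, show a 3 i₀ = 0 from g 3] at hB
    omega
  have hBQ : B ≠ Q := fun e => by rw [e, hQ3] at hB; omega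
  have hd3 := D.deg 3
  rw [sum_two hAB (fun j h1 h2 => by rw [hrest3 j h1 h2, zero_mul]), hP3] at hd3
  have hB3 : a 3 B = -(a 0 A) := by
    have := D.d_pos A
    have := D.d_pos B
    rcases hP with hP | hP <;> rcases hB with hB | hB <;> rw [hP, hB] at hd3 <;> rw [hP, hB] <;>
      omega
  -- the third vector
  have h02 : ∑ j, a 0 j * a 2 j = 0 := D.gram 0 2
  rw [sum_three hP0 hQ0 hPQ (fun j h1 h2 h3 => by rw [hrest j h1 h2 h3, zero_mul]),
    show a 2 i₀ = 0 from g 2, mul_zero, zero_add] at h02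
  have h32 : ∑ j, a 3 j * a 2 j = -1 := D.gram 3 2
  rw [sum_two hAB (fun j h1 h2 => by rw [hrest3 j h1 h2, zero_mul]), hP3, hB3] at h32
  obtain ⟨C, E, hCE, hC, hE, hrest2⟩ := two_support (v := a 2) (D.gram 2 2)
  have hP2 : a 2 A = 0 := by
    by_contra hne
    have hQne : a 2 Q ≠ 0 := by
      intro e
      rw [e, mul_zero, add_zero] at h02
      rcases mul_eq_zero.mp h02 with h | h
      · omega
      · exact hne h
    have hmem : ∀ j, a 2 j ≠ 0 → j = C ∨ j = E := fun j hj =>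
      or_iff_not_imp_left.mpr fun h1 => by_contra fun h2 => hj (hrest2 j h1 h2)
    have hother : ∀ j, j ≠ A → j ≠ Q → a 2 j = 0 := by
      intro j h1 h2
      by_contra hj
      rcases hmem j hj with rfl | rfl <;> rcases hmem A hne with rfl | rfl <;>
        rcases hmem Q hQne with rfl | rfl <;> simp at *
    rw [hother B hAB.symm hBQ, mul_zero, add_zero] at h32
    have hd2 := D.deg 2
    rw [sum_two hPQ (fun j h1 h2 => by rw [hother j h1 h2, zero_mul])] at hd2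
    have hd0 := D.deg 0
    rw [sum_three hP0 hQ0 hPQ (fun j h1 h2 h3 => by rw [hrest j h1 h2 h3, zero_mul]),
      show a 0 i₀ = 1 from g 0, D.d_zero] at hd0
    rcases hP with hP | hP <;> rcases hQ with hQ | hQ <;> rw [hP, hQ] at hd0 h02 <;>
      rw [hP] at h32 <;>
      · have e1 : a 2 A = 1 ∨ a 2 A = -1 := by omega
        have e2 : a 2 Q = 1 ∨ a 2 Q = -1 := by omega
        rcases e1 with e1 | e1 <;> rcases e2 with e2 | e2 <;>
          simp only [e1, e2] at hd2 h02 h32 <;> omega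
  have hQ2 : a 2 Q = 0 := by
    rw [hP2, mul_zero, zero_add] at h02
    exact (mul_eq_zero.mp h02).resolve_left (by omega)
  have hB2 : a 2 B = a 0 A := by
    rw [hP2, mul_zero, zero_add] at h32
    rcases hP with hP | hP <;> rw [hP] at h32 ⊢ <;> linarith
  wlog hCB : C = B generalizing C E
  · refine this E C hCE.symm hE hC (fun j h1 h2 => hrest2 j h2 h1) ?_
    by_contra hEB
    have := hrest2 B (Ne.symm hCB) (Ne.symm hEB)
    rw [hB2] at this
    omega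
  subst hCB
  refine ⟨A, Q, C, E, a 0 A, a 0 Q, hP, hQ, hP0, hQ0, hB0, ?_, hPQ, hAB, ?_, hBQ.symm, ?_, hCE,
    ⟨rfl, rfl, hrest⟩, ⟨hP3, hB3, hrest3⟩, ⟨hB2, hrest2⟩, hE⟩
  · intro e
    rw [e, show a 2 i₀ = 0 from g 2] at hE
    omega
  · intro e
    rw [← e, hP2] at hE
    omega
  · intro e
    rw [← e, hQ2] at hE
    omega

theorem extract (D : Data i₀ d a) :
    ∃ A B : ℤ, A ≠ 0 ∧ A + 1 ≠ 0 ∧ B ≠ 0 ∧ B + 1 ≠ 0 ∧
      ∑ j, (a 0 j : ℚ) * (T a j : ℚ) ^ 2 / (d j : ℚ) = 1 + 4 / (A : ℚ) - 9 / ((A + 1 : ℤ) : ℚ) ∧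
      ∑ j, (a 1 j : ℚ) * (T a j : ℚ) ^ 2 / (d j : ℚ) = 1 + 9 / (B : ℚ) - 16 / ((B + 1 : ℤ) : ℚ) := by
  have g : ∀ k, a k i₀ = _ := D.a_zero
  obtain ⟨P, Q, R, S, s, s', hs, hs', hP0, hQ0, hR0, hS0, hPQ, hPR, hPS, hQR, hQS, hRS,
    ⟨p0, q0, r0⟩, ⟨p3, r3, z3⟩, ⟨r2, z2⟩, hS2⟩ := first D
  obtain ⟨U, W, hUW, hU0, hW0, hU, hW, z1⟩ :=
    three_support (v := a 1) (i₀ := i₀) (g 1) (D.gram 1 1)
  have hdP := D.d_pos P
  have hdQ := D.d_pos Q
  have hd0 := D.deg 0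
  rw [sum_three hP0 hQ0 hPQ (fun j h1 h2 h3 => by rw [r0 j h1 h2 h3, zero_mul]),
    show a 0 i₀ = 1 from g 0, D.d_zero, p0, q0, Nat.cast_one, one_mul] at hd0
  have hd1 := D.deg 1
  rw [sum_three hU0 hW0 hUW (fun j h1 h2 h3 => by rw [z1 j h1 h2 h3, zero_mul]),
    show a 1 i₀ = 1 from g 1, D.d_zero, Nat.cast_one, one_mul] at hd1
  -- the second vector misses the first four constituents
  have h01 : ∑ j, a 0 j * a 1 j = 1 := D.gram 0 1
  rw [sum_three hP0 hQ0 hPQ (fun j h1 h2 h3 => by rw [r0 j h1 h2 h3, zero_mul]),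
    show a 0 i₀ = 1 from g 0, show a 1 i₀ = 1 from g 1, p0, q0, one_mul,
    add_eq_left] at h01
  have hP1 : a 1 P = 0 := by
    by_contra hne
    have hQne : a 1 Q ≠ 0 := by
      intro e
      rw [e, mul_zero, add_zero] at h01
      rcases mul_eq_zero.mp h01 with h | h
      · omega
      · exact hne h
    have hmem : ∀ j, j ≠ i₀ → a 1 j ≠ 0 → j = U ∨ j = W := fun j hj0 hj =>
      or_iff_not_imp_left.mpr fun h1 => by_contra fun h2 => hj (z1 j hj0 h1 h2)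
    rcases hmem P hP0 hne with rfl | rfl <;> rcases hmem Q hQ0 hQne with rfl | rfl
    · exact hPQ rfl
    · rcases hs with rfl | rfl <;> rcases hs' with rfl | rfl <;> rcases hU with e | e <;>
        rcases hW with e' | e' <;> simp only [e, e'] at h01 hd1 hd0 <;> omega
    · rcases hs with rfl | rfl <;> rcases hs' with rfl | rfl <;> rcases hU with e | e <;>
        rcases hW with e' | e' <;> simp only [e, e'] at h01 hd1 hd0 <;> omega
    · exact hPQ rfl
  have hQ1 : a 1 Q = 0 := by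
    rw [hP1, mul_zero, zero_add] at h01
    exact (mul_eq_zero.mp h01).resolve_left (by omega)
  have hR1 : a 1 R = 0 := by
    have h : ∑ j, a 3 j * a 1 j = 0 := D.gram 3 1
    rw [sum_two hPR (fun j h1 h2 => by rw [z3 j h1 h2, zero_mul]), p3, r3, hP1] at h
    simp at h
    omega
  have hS1 : a 1 S = 0 := by
    have h : ∑ j, a 2 j * a 1 j = 0 := D.gram 2 1
    rw [sum_two hRS (fun j h1 h2 => by rw [z2 j h1 h2, zero_mul]), r2, hR1] at h
    simp at h
    omega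
  have ne_of : ∀ {j k : ι}, a 1 j = 0 → (a 1 k = 1 ∨ a 1 k = -1) → k ≠ j := fun h h' e => by
    rw [e, h] at h'; omega
  have hUP := ne_of hP1 hU
  have hUQ := ne_of hQ1 hU
  have hUR := ne_of hR1 hU
  have hUS := ne_of hS1 hU
  have hWP := ne_of hP1 hW
  have hWQ := ne_of hQ1 hW
  have hWR := ne_of hR1 hW
  have hWS := ne_of hS1 hW
  -- the fifth vector
  have hn4 : ∑ j, a 4 j * a 4 j = 3 := D.gram 4 4
  have hb : ∀ j, a 4 j = -1 ∨ a 4 j = 0 ∨ a 4 j = 1 := fun j =>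
    sign_of_sq (by linarith [entry_le (v := a 4) j])
  have h04 : s * a 4 P + s' * a 4 Q = -1 := by
    have h : ∑ j, a 0 j * a 4 j = -1 := D.gram 0 4
    rw [sum_three hP0 hQ0 hPQ (fun j h1 h2 h3 => by rw [r0 j h1 h2 h3, zero_mul]), p0, q0,
      show a 4 i₀ = 0 from g 4] at h
    simpa using h
  have hPR4 : a 4 P = a 4 R := by
    have h : ∑ j, a 3 j * a 4 j = 0 := D.gram 3 4
    rw [sum_two hPR (fun j h1 h2 => by rw [z3 j h1 h2, zero_mul]), p3, r3] at h
    simp at h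
    rcases hs with rfl | rfl <;> omega
  have hRS4 : s * a 4 R + a 2 S * a 4 S = 0 := by
    have h : ∑ j, a 2 j * a 4 j = 0 := D.gram 2 4
    rw [sum_two hRS (fun j h1 h2 => by rw [z2 j h1 h2, zero_mul]), r2] at h
    simpa using h
  have h14 : a 1 U * a 4 U + a 1 W * a 4 W = 1 := by
    have h : ∑ j, a 1 j * a 4 j = 1 := D.gram 1 4
    rw [sum_three hU0 hW0 hUW (fun j h1 h2 h3 => by rw [z1 j h1 h2 h3, zero_mul]),
      show a 4 i₀ = 0 from g 4] at h
    simpa using h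
  have hP4 : a 4 P = 0 := by
    by_contra hne
    have h1 := four_le (v := a 4) hPR hPS hUP.symm hRS hUR.symm hUS.symm
    have h2 := four_le (v := a 4) hPR hPS hWP.symm hRS hWR.symm hWS.symm
    have hS4 : a 4 S ≠ 0 := by
      intro e
      rw [e, mul_zero, add_zero] at hRS4
      rcases mul_eq_zero.mp hRS4 with h | h
      · omega
      · exact hne (hPR4.trans h)
    rw [← hPR4, hn4] at h1 h2
    have e1 : a 4 P * a 4 P = 1 := by rcases hb P with e | e | e <;> simp [e] at hne ⊢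
    have e2 : a 4 S * a 4 S = 1 := by rcases hb S with e | e | e <;> simp [e] at hS4 ⊢
    have e3 : a 4 U = 0 := mul_self_eq_zero.mp (by linarith [mul_self_nonneg (a 4 U)])
    have e4 : a 4 W = 0 := mul_self_eq_zero.mp (by linarith [mul_self_nonneg (a 4 W)])
    rw [e3, e4] at h14
    simp at h14
  have hR4 : a 4 R = 0 := hPR4 ▸ hP4
  have hQ4 : a 4 Q = -s' := by
    rw [hP4, mul_zero, zero_add] at h04
    rcases hs' with rfl | rfl <;> linarith
  wlog hU4 : a 4 U = 0 generalizing U W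
  · refine this W U hUW.symm hW0 hU0 hW hU (fun j h1 h2 h3 => z1 j h1 h3 h2) (by linarith) hWP hWQ
      hWR hWS hUP hUQ hUR hUS (by linarith) ?_
    rcases hb U with e | e | e <;> rcases hb W with e' | e' | e' <;> rcases hU with h | h <;>
      rcases hW with h' | h' <;> (rw [e, e', h, h'] at h14; omega)
  rw [hU4, mul_zero, zero_add] at h14
  have hW4 : a 4 W = a 1 W := by rcases hW with h | h <;> rw [h] at h14 ⊢ <;> linarith
  -- the values at the involution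
  have T0 : T a i₀ = 1 := by
    rw [T, show a 0 i₀ = 1 from g 0, show a 1 i₀ = 1 from g 1, show a 2 i₀ = 0 from g 2,
      show a 3 i₀ = 0 from g 3, show a 4 i₀ = 0 from g 4]
    rfl
  have TP : T a P = 2 * s := by
    simp only [T, p0, hP1, z2 P hPR hPS, p3, hP4]; ring
  have TQ : T a Q = -(3 * s') := by
    simp only [T, q0, hQ1, z2 Q hQR hQS, z3 Q hPQ.symm hQR, hQ4]; ring
  have TU : T a U = 3 * a 1 U := by
    simp only [T, r0 U hU0 hUP hUQ, z2 U hUR hUS, z3 U hUP hUR, hU4]; ring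
  have TW : T a W = 4 * a 1 W := by
    simp only [T, r0 W hW0 hWP hWQ, z2 W hWR hWS, z3 W hWP hWR, hW4]; ring
  have hdU := D.d_pos U
  have hdW := D.d_pos W
  obtain ⟨c1, c2, c3⟩ := conclude (p := (d P : ℤ)) (q := (d Q : ℤ)) (by omega) (by omega) hs hs'
    (by linarith) 4 9
  obtain ⟨c4, c5, c6⟩ := conclude (p := (d U : ℤ)) (q := (d W : ℤ)) (by omega) (by omega) hU hW
    (by linarith) 9 16
  refine ⟨s * (d P : ℤ), a 1 U * (d U : ℤ), c1, c2, c4, c5, ?_, ?_⟩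
  · rw [sum_three hP0 hQ0 hPQ (fun j h1 h2 h3 => by rw [r0 j h1 h2 h3]; simp), T0, TP, TQ, p0, q0,
      show a 0 i₀ = 1 from g 0, D.d_zero, ← c3]
    rcases hs with rfl | rfl <;> rcases hs' with rfl | rfl <;> push_cast <;> ring
  · rw [sum_three hU0 hW0 hUW (fun j h1 h2 h3 => by rw [z1 j h1 h2 h3]; simp), T0, TU, TW,
      show a 1 i₀ = 1 from g 1, D.d_zero, ← c6]
    rcases hU with h | h <;> rcases hW with h' | h' <;> rw [h, h'] <;> push_cast <;> ring

end Cfsg.Agent.GLTwoThree.Extract
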