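import Cfsg.Agent.Lib.GLTwoThree.Local
import Cfsg.Agent.Lib.GLTwoThree.Extract
import Cfsg.Agent.Lib.GLTwoThree.Arith
import Cfsg.Agent.Lib.Char.Integral
import Cfsg.Agent.Lib.Char.Degree
import Mathlib.GroupTheory.Sylow
import Mathlib.GroupTheory.Subgroup.Simple
import Mathlib.GroupTheory.Perm.Cycle.Type
import Mathlib.GroupTheory.Nilpotent

/-!
# Simple groups with an involution centraliser `GL(2,3)`
-/

set_option autoImplicit false
set_option linter.style.haveILetI false
set_option linter.unusedSectionVars false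

namespace Cfsg.Agent.GLTwoThree

open Cfsg Cfsg.Agent.Char Cfsg.Agent.CharX
open scoped ComplexConjugate Classical

universe u

variable {G : Type u} [Group G] [Finite G] {t : G} (ht : orderOf t = 2)
  (e : Subgroup.centralizer ({t} : Set G) ≃* Matrix.GeneralLinearGroup (Fin 2) (ZMod 3))


theorem t_mem : t ∈ (Subgroup.centralizer ({t} : Set G)) := Subgroup.mem_centralizer_singleton_iff.mpr rfl

include ht in
theorem co'_t : co' e ⟨t, t_mem⟩ = negOne := by
  rcases center_two _ (co'_mem e ⟨t, t_mem⟩) with h | h | ⟨x, hx, hne⟩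
  · exfalso
    have h1 := congrArg Subtype.val ((co'_eq_one e).mp h)
    simp only [OneMemClass.coe_one] at h1
    rw [h1, orderOf_one] at ht
    omega
  · exact h
  · exfalso
    obtain ⟨y, rfl⟩ := co'_surj e hx
    refine hne ?_
    rw [← co'_mul, ← co'_mul]
    exact congrArg _ (Subtype.ext (Subgroup.mem_centralizer_singleton_iff.mp y.2).symm)

include ht in
theorem eq_t {z : (Subgroup.centralizer ({t} : Set G))} (hz : co' e z = negOne) : (z : G) = t :=
  congrArg Subtype.val (co'_injective e (hz.trans (co'_t ht e).symm))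

theorem sq_one_iff (x : (Subgroup.centralizer ({t} : Set G))) : (x : G) * x = 1 ↔ mul (co' e x) (co' e x) = one := by
  rw [← co'_mul, co'_eq_one]
  exact ⟨fun h => Subtype.ext h, fun h => congrArg Subtype.val h⟩

theorem ne_one_iff (x : (Subgroup.centralizer ({t} : Set G))) : (x : G) ≠ 1 ↔ co' e x ≠ one := by
  rw [Ne, Ne, co'_eq_one]
  exact not_congr ⟨fun h => Subtype.ext h, fun h => congrArg Subtype.val h⟩

theorem card_filter_eq (p : V → Prop) [DecidablePred p] :
    Nat.card {h : (Subgroup.centralizer ({t} : Set G)) // p (co' e h)} = (U.filter p).card := by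
  haveI : Fintype (Subgroup.centralizer ({t} : Set G)) := Fintype.ofFinite (Subgroup.centralizer ({t} : Set G))
  rw [Nat.card_eq_fintype_card, Fintype.card_subtype]
  exact card_filter_co' e p

/-- The subgroup of elements with coordinates in a closed set. -/
def sub (p : V → Prop) (h1 : p one) (hm : ∀ x ∈ U, ∀ y ∈ U, p x → p y → p (mul x y)) :
    Subgroup G where
  carrier := {g | ∃ h : g ∈ (Subgroup.centralizer ({t} : Set G)), p (co' e ⟨g, h⟩)}
  one_mem' := ⟨Subgroup.one_mem (Subgroup.centralizer ({t} : Set G)), by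
    rw [show (⟨1, Subgroup.one_mem (Subgroup.centralizer ({t} : Set G))⟩ : (Subgroup.centralizer ({t} : Set G))) = 1 from rfl, co'_one]; exact h1⟩
  mul_mem' := fun {a b} ⟨ha, pa⟩ ⟨hb, pb⟩ => ⟨Subgroup.mul_mem (Subgroup.centralizer ({t} : Set G)) ha hb, by
    rw [show (⟨a * b, Subgroup.mul_mem (Subgroup.centralizer ({t} : Set G)) ha hb⟩ : (Subgroup.centralizer ({t} : Set G))) = (⟨a, ha⟩ : (Subgroup.centralizer ({t} : Set G))) * ⟨b, hb⟩ from rfl, co'_mul]
    exact hm _ (co'_mem e _) _ (co'_mem e _) pa pb⟩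
  inv_mem' := fun {a} ⟨ha, pa⟩ => by
    have hpow : ∀ k : ℕ, p (co' e ((⟨a, ha⟩ : (Subgroup.centralizer ({t} : Set G))) ^ k)) := by
      intro k
      induction k with
      | zero => rw [pow_zero, co'_one]; exact h1
      | succ k ih => rw [pow_succ, co'_mul]; exact hm _ (co'_mem e _) _ (co'_mem e _) ih pa
    refine ⟨Subgroup.inv_mem (Subgroup.centralizer ({t} : Set G)) ha, ?_⟩
    have h := hpow (orderOf (⟨a, ha⟩ : (Subgroup.centralizer ({t} : Set G))) - 1)
    have he : (⟨a, ha⟩ : (Subgroup.centralizer ({t} : Set G))) ^ (orderOf (⟨a, ha⟩ : (Subgroup.centralizer ({t} : Set G))) - 1) = (⟨a, ha⟩ : (Subgroup.centralizer ({t} : Set G)))⁻¹ := by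
      refine eq_inv_of_mul_eq_one_left ?_
      rw [← pow_succ, Nat.sub_add_cancel (isOfFinOrder_of_finite _).orderOf_pos, pow_orderOf_eq_one]
    rwa [he] at h

theorem card_sub (p : V → Prop) [DecidablePred p] (h1 : p one)
    (hm : ∀ x ∈ U, ∀ y ∈ U, p x → p y → p (mul x y)) :
    Nat.card (sub e p h1 hm) = (U.filter p).card := by
  rw [← card_filter_eq e p]
  exact Nat.card_congr
    { toFun := fun g => ⟨⟨g.1, g.2.1⟩, g.2.2⟩
      invFun := fun h => ⟨h.1.1, ⟨h.1.2, h.2⟩⟩
      left_inv := fun _ => rfl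
      right_inv := fun _ => rfl }

include ht e in
theorem two_part : 16 ∣ Nat.card G ∧ ¬ 32 ∣ Nat.card G := by
  haveI : Fact (Nat.Prime 2) := ⟨Nat.prime_two⟩
  have h1 : InP one := Or.inl (by decide +kernel)
  set P₀ := sub e InP h1 InP_mul with hP₀
  have hcard : Nat.card P₀ = 2 ^ 4 := by rw [hP₀, card_sub, InP_spec.1]; norm_num
  obtain ⟨S, hS⟩ := (IsPGroup.of_card hcard).exists_le_sylow
  have hHS : ((S : Subgroup G) ⊓ (Subgroup.centralizer ({t} : Set G)) : Subgroup G) = P₀ := by
    refine (Subgroup.eq_of_le_of_card_ge (le_inf hS fun g hg => hg.1) ?_).symm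
    obtain ⟨k, hk⟩ := (S.isPGroup'.to_le (inf_le_left : (S : Subgroup G) ⊓ (Subgroup.centralizer ({t} : Set G)) ≤ S)).exists_card_eq
    have hd : Nat.card ↥((S : Subgroup G) ⊓ (Subgroup.centralizer ({t} : Set G))) ∣ 48 :=
      card_X e ▸ Subgroup.card_dvd_of_le inf_le_right
    rw [hk] at hd ⊢
    rw [hcard]
    refine Nat.pow_le_pow_right (by norm_num) ?_
    by_contra hlt
    have h5 : (2 : ℕ) ^ 5 ∣ 48 := (pow_dvd_pow 2 (by omega)).trans hd
    norm_num at h5
  have hSeq : (S : Subgroup G) = P₀ := by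
    by_contra hne
    haveI : Group.IsNilpotent (S : Subgroup G) := S.isPGroup'.isNilpotent
    have hlt : P₀.subgroupOf (S : Subgroup G) < ⊤ := by
      rw [lt_top_iff_ne_top, Ne, Subgroup.subgroupOf_eq_top]
      exact fun h => hne (le_antisymm h hS)
    obtain ⟨y, hy, hyP⟩ := SetLike.exists_of_lt
      (Group.normalizerCondition_of_isNilpotent (P₀.subgroupOf (S : Subgroup G)) hlt)
    have hmem : ∀ x ∈ P₀, (y : G) * x * (y : G)⁻¹ ∈ P₀ ∧ (y : G)⁻¹ * x * y ∈ P₀ := by
      intro x hx
      refine ⟨(Subgroup.mem_normalizer_iff.mp hy ⟨x, hS hx⟩).mp (Subgroup.mem_subgroupOf.mpr hx),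
        ?_⟩
      have := (Subgroup.mem_normalizer_iff.mp (Subgroup.inv_mem _ hy) ⟨x, hS hx⟩).mp
        (Subgroup.mem_subgroupOf.mpr hx)
      simpa [Subgroup.mem_subgroupOf] using this
    have htP : t ∈ P₀ := ⟨t_mem, by rw [co'_t ht e]; exact Or.inl (by decide +kernel)⟩
    obtain ⟨hzH, hzP⟩ := (hmem t htP).1
    have hne1 : co' e ⟨_, hzH⟩ ≠ one := (ne_one_iff e ⟨_, hzH⟩).mp fun h => by
      have h' := conj_eq_one_iff.mp h
      rw [h', orderOf_one] at ht
      omega
    have hyH : (y : G) ∈ (Subgroup.centralizer ({t} : Set G)) := by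
      rcases InP_center _ (co'_mem e ⟨_, hzH⟩) hzP with h | h | ⟨x, hx, hxP, hxne⟩
      · exact absurd h hne1
      · have h' : (y : G) * t * (y : G)⁻¹ = t := eq_t ht e h
        exact Subgroup.mem_centralizer_singleton_iff.mpr (mul_inv_eq_iff_eq_mul.mp h')
      · exfalso
        obtain ⟨x', rfl⟩ := co'_surj e hx
        refine hxne ?_
        rw [← co'_mul, ← co'_mul]
        refine congrArg _ (Subtype.ext ?_)
        have h2 : (y : G)⁻¹ * x' * y ∈ (Subgroup.centralizer ({t} : Set G)) := ((hmem (x' : G) ⟨x'.2, hxP⟩).2).1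
        rw [Subgroup.mem_centralizer_singleton_iff] at h2
        change (y : G) * t * (y : G)⁻¹ * x' = x' * ((y : G) * t * (y : G)⁻¹)
        calc (y : G) * t * (y : G)⁻¹ * x'
            = (y : G) * (t * ((y : G)⁻¹ * x' * y)) * (y : G)⁻¹ := by group
          _ = (y : G) * ((y : G)⁻¹ * x' * y * t) * (y : G)⁻¹ := by rw [h2]
          _ = x' * ((y : G) * t * (y : G)⁻¹) := by group
    exact hyP (Subgroup.mem_subgroupOf.mpr (hHS ▸ ⟨y.2, hyH⟩ : (y : G) ∈ P₀))
  have hS16 : Nat.card (S : Subgroup G) = 2 ^ 4 := by rw [hSeq, hcard]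
  refine ⟨?_, fun h32 => ?_⟩
  · exact (hS16 ▸ Subgroup.card_subgroup_dvd_card (S : Subgroup G) : 2 ^ 4 ∣ Nat.card G)
  · have h := S.pow_dvd_card_of_pow_dvd_card (n := 5) (by simpa using h32)
    have h' : (2 : ℕ) ^ 5 ∣ 2 ^ 4 := hS16 ▸ h
    norm_num at h'

include ht e in
/-- There is one class of involutions. -/
theorem isConj_t [IsSimpleGroup G] {u : G} (hu : orderOf u = 2) : IsConj t u := by
  haveI : Fact (Nat.Prime 2) := ⟨Nat.prime_two⟩
  let p : V → Prop := fun x => InP x ∧ det x = 1
  have h1 : p one := ⟨Or.inl (by decide +kernel), by decide +kernel⟩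
  have hm : ∀ x ∈ U, ∀ y ∈ U, p x → p y → p (mul x y) := fun x hx y hy a b => by
    refine ⟨InP_mul x hx y hy a.1 b.1, ?_⟩
    have : ∀ x y : V, det (mul x y) = det x * det y := fun x y => by simp only [det, mul]; ring
    rw [this, a.2, b.2, mul_one]
  set M := sub e p h1 hm with hM
  have hMc : Nat.card M = 8 := by rw [hM, card_sub, InP_spec.2]
  obtain ⟨h16, h32⟩ := two_part ht e
  obtain ⟨m, hm2⟩ : ∃ m, M.index = 2 * m ∧ ¬ 2 ∣ m := by
    have h := M.card_mul_index
    rw [hMc] at h
    obtain ⟨k, hk⟩ := h16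
    exact ⟨k, by omega, by omega⟩
  by_cases hfix : ∃ q : G ⧸ M, u • q = q
  · obtain ⟨q, hq⟩ := hfix
    obtain ⟨g, rfl⟩ := QuotientGroup.mk_surjective q
    have hq' : ((u * g : G) : G ⧸ M) = (g : G ⧸ M) := hq
    have hmem : g⁻¹ * u * g ∈ M := by
      rw [mul_assoc]
      exact QuotientGroup.eq.mp hq'.symm
    obtain ⟨hH, -, hdet⟩ := hmem
    have hord : orderOf (g⁻¹ * u * g) = 2 := by
      rw [show g⁻¹ * u * g = MulAut.conj g⁻¹ u by simp, MulEquiv.orderOf_eq, hu]
    have hsq : g⁻¹ * u * g * (g⁻¹ * u * g) = 1 := by rw [← pow_two, ← hord, pow_orderOf_eq_one]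
    rcases invol_dets _ (co'_mem e ⟨_, hH⟩) ((sq_one_iff e ⟨_, hH⟩).mp hsq) hdet with h | h
    · exfalso
      refine (ne_one_iff e ⟨_, hH⟩).mp (fun h' => ?_) h
      rw [show g⁻¹ * u * g = 1 from h', orderOf_one] at hord
      omega
    · exact isConj_iff.mpr ⟨g, by rw [← eq_t ht e h]; group⟩
  · exfalso
    push Not at hfix
    haveI : Fintype (G ⧸ M) := Fintype.ofFinite _
    let σ : G →* Equiv.Perm (G ⧸ M) := MulAction.toPermHom G (G ⧸ M)
    have hne : σ u ≠ 1 := fun h => hfix ((1 : G) : G ⧸ M) (Equiv.Perm.ext_iff.mp h ((1 : G) : G ⧸ M))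
    have hord : orderOf (σ u) = 2 := orderOf_eq_prime
      (by rw [← map_pow, ← hu, pow_orderOf_eq_one, map_one]) hne
    obtain ⟨k, hk⟩ := Equiv.Perm.cycleType_prime_order (σ := σ u) (by rw [hord]; exact Nat.prime_two)
    have hsupp : (σ u).support = Finset.univ :=
      Finset.eq_univ_of_forall fun q => Equiv.Perm.mem_support.mpr (hfix q)
    have hsum := Equiv.Perm.sum_cycleType (σ u)
    rw [hk, hord, hsupp, Multiset.sum_replicate, Finset.card_univ, ← Nat.card_eq_fintype_card,
      ← Subgroup.index_eq_card, hm2.1, smul_eq_mul] at hsum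
    have hsign : Equiv.Perm.sign (σ u) = -1 := by
      rw [Equiv.Perm.sign_of_cycleType, hk, hord, Multiset.sum_replicate, Multiset.card_replicate,
        smul_eq_mul, Odd.neg_one_pow]
      have := hm2.2
      exact Nat.odd_iff.mpr (by omega)
    let π : G →* ℤˣ := Equiv.Perm.sign.comp σ
    have hπ : π u = -1 := hsign
    rcases IsSimpleGroup.eq_bot_or_eq_top_of_normal π.ker inferInstance with hb | hb
    · have hinj : Function.Injective π := (MonoidHom.ker_eq_bot_iff π).mp hb
      have h2 := Nat.card_le_card_of_injective π hinj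
      have h48 : 48 ≤ Nat.card G := card_X e ▸ Subgroup.card_le_card_group (Subgroup.centralizer ({t} : Set G))
      rw [Nat.card_eq_fintype_card (α := ℤˣ), Fintype.card_units_int] at h2
      omega
    · have : π u = 1 := MonoidHom.mem_ker.mp (hb ▸ Subgroup.mem_top u)
      rw [hπ] at this
      exact absurd this (by decide)

include ht e in
theorem mem_H_of_inD {x : G} {h h' : (Subgroup.centralizer ({t} : Set G))} (hxh : x⁻¹ * (h : G) * x = h') (hD : inD (co' e h))
    (hD' : inD (co' e h')) : x ∈ (Subgroup.centralizer ({t} : Set G)) := by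
  obtain ⟨k, hk, hkt⟩ : ∃ k ∈ [1, 2, 3, 4], pw (co' e h) k = negOne := by
    rcases inD_pow _ (co'_mem e h) hD with h1 | h1 | h1 | h1 <;> exact ⟨_, by simp, h1⟩
  have hpk : ((h : G)) ^ k = t := by
    rw [← Subgroup.coe_pow]
    exact eq_t ht e (by rw [co'_pow, hkt])
  have h'k : ((h' : G)) ^ k = x⁻¹ * t * x := by
    have h9 := conj_pow (a := x⁻¹) (b := (h : G)) (i := k)
    rw [hpk] at h9
    rw [← hxh]
    simpa using h9
  have hord : orderOf (x⁻¹ * t * x) = 2 := by
    rw [show x⁻¹ * t * x = MulAut.conj x⁻¹ t by simp, MulEquiv.orderOf_eq, ht]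
  have h1 : mul (pw (co' e h') k) (pw (co' e h') k) = one := by
    rw [← co'_pow, ← sq_one_iff, Subgroup.coe_pow, h'k, ← pow_two, ← hord, pow_orderOf_eq_one]
  have h2 : pw (co' e h') k ≠ one := by
    rw [← co'_pow]
    refine (ne_one_iff e _).mp fun h => ?_
    rw [Subgroup.coe_pow, h'k] at h
    rw [h, orderOf_one] at hord
    omega
  have h3 := eq_t ht e (z := h' ^ k) (by rw [co'_pow]; exact inD_invol _ (co'_mem e h') hD' k hk h1 h2)
  rw [Subgroup.coe_pow, h'k] at h3
  refine Subgroup.mem_centralizer_singleton_iff.mpr ?_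
  calc x * t = x * (x⁻¹ * t * x) := by rw [h3]
    _ = t * x := by group

theorem theta_off (k : Fin 5) (h : (Subgroup.centralizer ({t} : Set G))) (hD : ¬ inD (co' e h)) : theta e k h = 0 := by
  rw [theta, (val_off k _ (co'_mem e h)).resolve_left hD]
  simp [ev]

variable [Fintype G]

include ht in
theorem indFun_on (k : Fin 5) (h : (Subgroup.centralizer ({t} : Set G))) (hD : inD (co' e h)) : indFun (Subgroup.centralizer ({t} : Set G)) (theta e k) h = theta e k h := by
  have key : ∀ x : G, extendByZero (Subgroup.centralizer ({t} : Set G)) (theta e k) (x⁻¹ * h * x) =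
      if x ∈ (Subgroup.centralizer ({t} : Set G)) then theta e k h else 0 := by
    intro x
    split_ifs with hx
    · rw [extendByZero_mem (Subgroup.centralizer ({t} : Set G)) _ (Subgroup.mul_mem _ (Subgroup.mul_mem _ (Subgroup.inv_mem _ hx) h.2) hx)]
      refine (isClassFunction_iff.mp (theta_class e k) h _ (isConj_iff.mpr
        ⟨⟨x⁻¹, Subgroup.inv_mem _ hx⟩, Subtype.ext (by simp)⟩)).symm
    · by_cases hc : x⁻¹ * (h : G) * x ∈ (Subgroup.centralizer ({t} : Set G))
      · rw [extendByZero_mem (Subgroup.centralizer ({t} : Set G)) _ hc]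
        exact theta_off e k _ fun hD' => hx (mem_H_of_inD ht e (h' := ⟨_, hc⟩) rfl hD hD')
      · exact extendByZero_not_mem (Subgroup.centralizer ({t} : Set G)) _ hc
  rw [indFun_apply, Finset.sum_congr rfl fun x _ => key x, Finset.sum_ite, Finset.sum_const_zero,
    add_zero, Finset.sum_const, nsmul_eq_mul, ← Fintype.card_subtype, ← Nat.card_eq_fintype_card,
    ← mul_assoc, inv_mul_cancel₀ (Nat.cast_ne_zero.mpr Nat.card_pos.ne'), one_mul]

include ht in
theorem inner_ind (k l : Fin 5) :
    classInner (indFun (Subgroup.centralizer ({t} : Set G)) (theta e k)) (indFun (Subgroup.centralizer ({t} : Set G)) (theta e l)) = (gram k l : ℂ) / 48 := by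
  haveI : Fintype (Subgroup.centralizer ({t} : Set G)) := Fintype.ofFinite (Subgroup.centralizer ({t} : Set G))
  rw [classInner_indFun_left (Subgroup.centralizer ({t} : Set G)) _ (isClassFunction_indFun (Subgroup.centralizer ({t} : Set G)) _), ← inner_theta e k l]
  simp only [Cfsg.classInner]
  refine congrArg _ (Finset.sum_congr rfl fun h _ => ?_)
  by_cases hD : inD (co' e h)
  · rw [indFun_on ht e l h hD]
  · rw [theta_off e k h hD, zero_mul, zero_mul]

include ht e in
theorem delta [IsSimpleGroup G] (y : G) :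
    ∑ ψ : IrrCharacter G, conj ((ψ : G → ℂ) t) * (ψ : G → ℂ) y =
      if IsConj t y then 48 else 0 := by
  split_ifs with h
  · rw [Finset.sum_congr rfl fun ψ _ => mul_comm _ _]
    rw [Finset.sum_congr rfl fun (ψ : IrrCharacter G) _ =>
      show (ψ : G → ℂ) y * conj ((ψ : G → ℂ) t) = (ψ : G → ℂ) t * conj ((ψ : G → ℂ) t) by
        rw [isClassFunction_iff.mp (IsCharacter.isClassFunction (IsIrrCharacter.isCharacter ψ.2)) t y h],
      column_orth_of_isConj (IsConj.refl t), card_X e]
    norm_num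
  · rw [Finset.sum_congr rfl fun ψ _ => mul_comm _ _]
    exact column_orth_of_not_isConj fun h' => h h'.symm

include ht e in
/-- The theorem. -/
theorem card_eq [IsSimpleGroup G] : Nat.card G = 5616 ∨ Nat.card G = 7920 := by
  haveI : Fintype (Subgroup.centralizer ({t} : Set G)) := Fintype.ofFinite (Subgroup.centralizer ({t} : Set G))
  choose a ha using fun (k : Fin 5) (ψ : IrrCharacter G) =>
    IsGeneralizedCharacter.exists_classInner_int
      (IsGeneralizedCharacter.indFun (Subgroup.centralizer ({t} : Set G)) (theta_gen e k))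
      (IsGeneralizedCharacter.of_isCharacter (IsIrrCharacter.isCharacter ψ.2))
  have hexp : ∀ k, indFun (Subgroup.centralizer ({t} : Set G)) (theta e k) = ∑ ψ, (a k ψ : ℂ) • (ψ : G → ℂ) := by
    intro k
    conv_lhs => rw [classFunction_eq_sum (isClassFunction_indFun (Subgroup.centralizer ({t} : Set G)) _)]
    exact Finset.sum_congr rfl fun ψ _ => by rw [ha]
  have hres : ∀ k (ψ : IrrCharacter G),
      classInner (theta e k) (fun h : (Subgroup.centralizer ({t} : Set G)) => (ψ : G → ℂ) h) = a k ψ := by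
    intro k ψ
    rw [← classInner_indFun_left (Subgroup.centralizer ({t} : Set G)) _ (IsCharacter.isClassFunction (IsIrrCharacter.isCharacter ψ.2)),
      ha]
  have hna : ¬ ∀ x y : G, x * y = y * x := by
    intro h
    have hc : ∀ v ∈ U, ∀ w' ∈ U, mul v w' = mul w' v := fun v hv w' hw' => by
      obtain ⟨x, rfl⟩ := co'_surj e hv
      obtain ⟨y, rfl⟩ := co'_surj e hw'
      rw [← co'_mul, ← co'_mul, show x * y = y * x from Subtype.ext (h x y)]
    exact absurd (hc (0, 2, 1, 0) (by decide +kernel) (1, 1, 0, 1) (by decide +kernel))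
      (by decide +kernel)
  have D : Extract.Data (principal G) (fun ψ : IrrCharacter G => charDegree (ψ : G → ℂ)) a := by
    refine ⟨charDegree_one, irr_deg_pos, fun ψ hψ => ?_, fun k => ?_, fun k => ?_, fun k l => ?_⟩
    · obtain ⟨f, hf⟩ := exists_hom_of_degree_one (IsIrrCharacter.isCharacter ψ.2)
        (by rw [irr_deg, hψ, Nat.cast_one])
      rcases IsSimpleGroup.eq_bot_or_eq_top_of_normal f.ker inferInstance with hb | hb
      · exfalso
        refine hna fun x y => (MonoidHom.ker_eq_bot_iff f).mp hb ?_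
        rw [map_mul, map_mul, mul_comm]
      · refine Subtype.ext (funext fun g => ?_)
        rw [hf]
        change ((f g : ℂˣ) : ℂ) = 1
        rw [MonoidHom.mem_ker.mp (hb ▸ Subgroup.mem_top g), Units.val_one]
    · have h := hres k (principal G)
      rw [show (fun h : (Subgroup.centralizer ({t} : Set G)) => (principal G : G → ℂ) h) = fun _ => 1 from rfl, inner_theta_one] at h
      exact_mod_cast h.symm
    · have h := congrFun (hexp k) 1
      rw [indFun_one_apply, Finset.sum_apply] at h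
      simp only [Pi.smul_apply, smul_eq_mul, irr_deg] at h
      have h0 : theta e k 1 = 0 := theta_off e k 1 (by rw [co'_one]; decide +kernel)
      rw [h0, mul_zero] at h
      exact_mod_cast h.symm
    · have h := inner_ind ht e k l
      rw [hexp k, hexp l, classInner_combination₂] at h
      simp only [map_intCast] at h
      have hg : ∀ k l, (gram k l : ℤ) = 48 * ![![3, 1, 0, 1, -1], ![1, 3, 0, 0, 1], ![0, 0, 2, -1, 0],
          ![1, 0, -1, 2, 0], ![-1, 1, 0, 0, 3]] k l := by decide
      rw [hg k l, Int.cast_mul] at h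
      refine (Int.cast_injective (α := ℂ)) ?_
      push_cast
      rw [h]
      push_cast
      ring
  obtain ⟨A, B, hA0, hA1, hB0, hB1, sA, sB⟩ := Extract.extract D
  -- values at the involution
  have hT : ∀ ψ : IrrCharacter G, (ψ : G → ℂ) t = (Extract.T a ψ : ℂ) := by
    intro ψ
    have h1 : ∑ k, (comb k : ℂ) * classInner (theta e k) (fun h : (Subgroup.centralizer ({t} : Set G)) => (ψ : G → ℂ) h) =
        conj ((ψ : G → ℂ) t) := by
      simp only [Cfsg.classInner, Finset.mul_sum, card_X e]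
      rw [Finset.sum_comm]
      calc ∑ h : (Subgroup.centralizer ({t} : Set G)), ∑ k, (comb k : ℂ) * (((48 : ℕ) : ℂ)⁻¹ * (theta e k h * conj ((ψ : G → ℂ) h)))
          = ∑ h : (Subgroup.centralizer ({t} : Set G)), ((48 : ℕ) : ℂ)⁻¹ * (if co' e h = negOne then 48 else 0) *
              conj ((ψ : G → ℂ) h) := by
            refine Finset.sum_congr rfl fun h _ => ?_
            rw [← comb_theta e h, Finset.mul_sum, Finset.sum_mul]
            exact Finset.sum_congr rfl fun k _ => by ring
        _ = conj ((ψ : G → ℂ) t) := by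
            rw [Finset.sum_eq_single (⟨t, t_mem⟩ : (Subgroup.centralizer ({t} : Set G)))]
            · rw [if_pos (co'_t ht e)]; norm_num
            · intro h _ hne
              rw [if_neg fun h' => hne (Subtype.ext (eq_t ht e h'))]
              ring
            · exact fun hn => absurd (Finset.mem_univ _) hn
    simp only [hres, comb, Fin.sum_univ_five] at h1
    have h2 : ((Extract.T a ψ : ℤ) : ℂ) = conj ((ψ : G → ℂ) t) := by
      rw [← h1, Extract.T]
      simp
    rw [← Complex.conj_conj ((ψ : G → ℂ) t), ← h2, map_intCast]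
  -- the structure constants
  set idx' : ℂ := ((Subgroup.centralizer ({t} : Set G)).index : ℂ) with hidx
  set N : G → ℂ := fun x => (((classFinset t).filter fun i => IsConj t (i * x)).card : ℂ) with hN
  have hNsum : ∀ x, 48 * N x = idx' *
      ∑ ψ : IrrCharacter G, (Extract.T a ψ : ℂ) ^ 2 * (ψ : G → ℂ) x / (ψ : G → ℂ) 1 := by
    intro x
    have h1 : 48 * N x = ∑ i ∈ classFinset t,
        ∑ ψ : IrrCharacter G, conj ((ψ : G → ℂ) t) * (ψ : G → ℂ) (i * x) := by
      simp only [hN, Finset.natCast_card_filter, Finset.mul_sum]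
      refine Finset.sum_congr rfl fun i _ => ?_
      rw [delta ht e]
      split_ifs <;> simp
    rw [h1, Finset.sum_comm, Finset.mul_sum]
    refine Finset.sum_congr rfl fun ψ _ => ?_
    rw [← Finset.mul_sum]
    obtain ⟨n, ρ, hρ, hχ⟩ := id ψ.2
    haveI := hρ
    have h2 : ∑ i ∈ classFinset t, (ψ : G → ℂ) (i * x) =
        idx' * (ψ : G → ℂ) t / (ψ : G → ℂ) 1 * (ψ : G → ℂ) x := by
      rw [← hχ]
      simp only [Representation.character, map_mul]
      rw [← map_sum, ← Finset.sum_mul, classSum_scalar, smul_mul_assoc, Module.End.mul_eq_comp,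
        LinearMap.id_comp, map_smul, smul_eq_mul, map_one, LinearMap.trace_one]
      rfl
    rw [h2, hT, map_intCast]
    ring
  have hloc : ∀ h : (Subgroup.centralizer ({t} : Set G)), inD (co' e h) → N h = (nloc (co' e h) : ℂ) := by
    intro h hD
    obtain ⟨k, hkt⟩ : ∃ k, pw (co' e h) k = negOne := by
      rcases inD_pow _ (co'_mem e h) hD with h1 | h1 | h1 | h1 <;> exact ⟨_, h1⟩
    have hpk : ((h : G)) ^ k = t := by
      rw [← Subgroup.coe_pow]
      exact eq_t ht e (by rw [co'_pow, hkt])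
    have hordconj : ∀ {z : G}, IsConj t z → z * z = 1 ∧ z ≠ 1 := by
      intro z hz
      obtain ⟨c, rfl⟩ := isConj_iff.mp hz
      have hord : orderOf (c * t * c⁻¹) = 2 := by
        rw [show c * t * c⁻¹ = MulAut.conj c t from rfl, MulEquiv.orderOf_eq, ht]
      exact ⟨by rw [← pow_two, ← hord, pow_orderOf_eq_one],
        fun h1 => by rw [h1, orderOf_one] at hord; omega⟩
    have hconv : ∀ {z : G}, z * z = 1 → z ≠ 1 → IsConj t z := fun {z} h1 h2 =>
      isConj_t ht e (orderOf_eq_prime (by rw [pow_two, h1]) h2)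
    have hinH : ∀ {i : G}, i * i = 1 → i * h * (i * h) = 1 → i ∈ (Subgroup.centralizer ({t} : Set G)) := by
      intro i h1 h2
      have hi : i⁻¹ = i := inv_eq_of_mul_eq_one_right h1
      have h3 : i * (h : G) * i⁻¹ = (h : G)⁻¹ := by
        rw [hi]
        refine eq_inv_of_mul_eq_one_left ?_
        rw [← h2]
        group
      have h4 : i * t * i⁻¹ = t := by
        rw [← hpk, ← conj_pow, h3, inv_pow, hpk, inv_eq_iff_mul_eq_one, ← pow_two, ← ht,
          pow_orderOf_eq_one]
      exact Subgroup.mem_centralizer_singleton_iff.mpr (mul_inv_eq_iff_eq_mul.mp h4)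
    simp only [hN, Nat.cast_inj, nloc]
    rw [← card_filter_eq e, ← Fintype.card_coe, ← Nat.card_eq_fintype_card]
    have hto : ∀ {i : G}, i ∈ (classFinset t).filter (fun i => IsConj t (i * (h : G))) →
        ∃ hi : i ∈ Subgroup.centralizer ({t} : Set G), co' e ⟨i, hi⟩ ≠ one ∧
          mul (co' e ⟨i, hi⟩) (co' e ⟨i, hi⟩) = one ∧ mul (co' e ⟨i, hi⟩) (co' e h) ≠ one ∧
          mul (mul (co' e ⟨i, hi⟩) (co' e h)) (mul (co' e ⟨i, hi⟩) (co' e h)) = one := by
      intro i hi
      obtain ⟨hi1, hi2⟩ := Finset.mem_filter.mp hi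
      obtain ⟨a1, a2⟩ := hordconj (mem_classFinset.mp hi1)
      obtain ⟨b1, b2⟩ := hordconj hi2
      have hiH := hinH a1 b1
      refine ⟨hiH, (ne_one_iff e _).mp a2, (sq_one_iff e ⟨i, hiH⟩).mp a1, ?_, ?_⟩
      · rw [← co'_mul]; exact (ne_one_iff e _).mp b2
      · rw [← co'_mul]; exact (sq_one_iff e (⟨i, hiH⟩ * h)).mp b1
    refine Nat.card_congr
      { toFun := fun i => ⟨⟨i.1, (hto i.2).1⟩, (hto i.2).2⟩
        invFun := fun z => ⟨z.1, ?_⟩
        left_inv := fun _ => rfl
        right_inv := fun _ => rfl }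
    obtain ⟨z1, z2, z3, z4⟩ := z.2
    rw [← co'_mul] at z3 z4
    exact Finset.mem_filter.mpr ⟨mem_classFinset.mpr (hconv ((sq_one_iff e z.1).mpr z2)
      ((ne_one_iff e z.1).mpr z1)), hconv ((sq_one_iff e (z.1 * h)).mpr z4)
      ((ne_one_iff e (z.1 * h)).mpr z3)⟩
  have hstar : ∀ (k : Fin 5) (S : ℚ),
      ∑ ψ, (a k ψ : ℚ) * (Extract.T a ψ : ℚ) ^ 2 / (charDegree ((ψ : IrrCharacter G) : G → ℂ) : ℚ) = S →
      ∑ h : (Subgroup.centralizer ({t} : Set G)), theta e k h * (nloc (co' e h) : ℂ) = idx' * (S : ℂ) := by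
    intro k S hS
    have hN' : ∀ h : (Subgroup.centralizer ({t} : Set G)), 48 * N h = idx' * ∑ ψ : IrrCharacter G,
        (Extract.T a ψ : ℂ) ^ 2 * conj ((ψ : G → ℂ) h) / (ψ : G → ℂ) 1 := by
      intro h
      have h1 := congrArg conj (hNsum h)
      simp only [hN, map_mul, map_natCast, map_ofNat, map_sum, map_div₀, map_pow, map_intCast,
        hidx, irr_deg] at h1 ⊢
      exact h1
    have h48 : (48 : ℂ) * ∑ h : (Subgroup.centralizer ({t} : Set G)), theta e k h * (nloc (co' e h) : ℂ) = 48 * (idx' * (S : ℂ)) := by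
      calc (48 : ℂ) * ∑ h : (Subgroup.centralizer ({t} : Set G)), theta e k h * (nloc (co' e h) : ℂ)
          = ∑ h : (Subgroup.centralizer ({t} : Set G)), theta e k h * (48 * N h) := by
            rw [Finset.mul_sum]
            refine Finset.sum_congr rfl fun h _ => ?_
            by_cases hD : inD (co' e h)
            · rw [hloc h hD]; ring
            · rw [theta_off e k h hD]; ring
        _ = idx' * ∑ ψ : IrrCharacter G, (Extract.T a ψ : ℂ) ^ 2 / (ψ : G → ℂ) 1 *
              (48 * classInner (theta e k) (fun h : (Subgroup.centralizer ({t} : Set G)) => (ψ : G → ℂ) h)) := by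
            simp only [hN', Cfsg.classInner, card_X e, Finset.mul_sum]
            rw [Finset.sum_comm]
            refine Finset.sum_congr rfl fun ψ _ => Finset.sum_congr rfl fun h _ => ?_
            push_cast
            ring
        _ = 48 * (idx' * (S : ℂ)) := by
            rw [← hS]
            simp only [hres, irr_deg, Rat.cast_sum, Finset.mul_sum]
            exact Finset.sum_congr rfl fun ψ _ => by push_cast; ring
    exact mul_left_cancel₀ (by norm_num) h48
  have hI : Nat.card G = 48 * (Subgroup.centralizer ({t} : Set G)).index := by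
    rw [← card_X e, Subgroup.card_mul_index]
  set I := (Subgroup.centralizer ({t} : Set G)).index with hIdef
  have e0 : (I : ℚ) * (1 + 4 / (A : ℚ) - 9 / ((A + 1 : ℤ) : ℚ)) = 96 := by
    have h := (sum_nloc e).1.symm.trans (hstar 0 _ sA)
    refine (Rat.cast_injective (α := ℂ)) ?_
    push_cast at h ⊢
    exact h.symm
  have e1 : (I : ℚ) * (1 + 9 / (B : ℚ) - 16 / ((B + 1 : ℤ) : ℚ)) = 192 := by
    have h := (sum_nloc e).2.symm.trans (hstar 1 _ sB)
    refine (Rat.cast_injective (α := ℂ)) ?_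
    push_cast at h ⊢
    exact h.symm
  have qA : (A : ℚ) ≠ 0 := Int.cast_ne_zero.mpr hA0
  have qA1 : (A : ℚ) + 1 ≠ 0 := by exact_mod_cast hA1
  have qB : (B : ℚ) ≠ 0 := Int.cast_ne_zero.mpr hB0
  have qB1 : (B : ℚ) + 1 ≠ 0 := by exact_mod_cast hB1
  push_cast at e0 e1
  field_simp at e0 e1
  obtain ⟨h16, h32⟩ := two_part ht e
  refine order_cases h16 h32 (a := A) (b := B) ?_ ?_
  · rw [hI]
    have : (4608 : ℚ) * ((A : ℚ) * ((A : ℚ) + 1)) = ((48 * I : ℕ) : ℚ) * ((A : ℚ) - 2) ^ 2 := by
      push_cast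
      linear_combination (-48 : ℚ) * e0
    exact_mod_cast this
  · rw [hI]
    have : (9216 : ℚ) * ((B : ℚ) * ((B : ℚ) + 1)) = ((48 * I : ℕ) : ℚ) * ((B : ℚ) - 3) ^ 2 := by
      push_cast
      linear_combination (-48 : ℚ) * e1
    exact_mod_cast this

end Cfsg.Agent.GLTwoThree
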