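import Cfsg.Agent.Lib.GLTwoThree.Order5616

/-!
# The root groups of a group of order `5616` with an involution centraliser `GL(2,3)`
-/

set_option autoImplicit false
set_option linter.style.haveILetI false
set_option linter.unusedSectionVars false

namespace Cfsg.Agent.GLTwoThree

open scoped commutatorElement

universe u

variable {G : Type u} [Group G] [Finite G]

theorem syl_bound (hG : Nat.card G = 5616) {K : Subgroup G} (hK : IsPGroup 3 K) : Nat.card K ∣ 27 := by
  haveI : Fact (Nat.Prime 3) := ⟨Nat.prime_three⟩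
  obtain ⟨k, hk⟩ := hK.exists_card_eq
  have h2 := hG ▸ Subgroup.card_subgroup_dvd_card K
  rw [hk] at h2 ⊢
  refine (pow_dvd_pow 3 (?_ : k ≤ 3)).trans (by norm_num)
  by_contra hlt
  have : (3 : ℕ) ^ 4 ∣ 5616 := (pow_dvd_pow 3 (by omega)).trans h2
  norm_num at this

theorem exists_sylow_ge (hG : Nat.card G = 5616) {K : Subgroup G} (hK : IsPGroup 3 K) :
    ∃ P : Subgroup G, K ≤ P ∧ Nat.card P = 27 ∧ IsPGroup 3 P := by
  haveI : Fact (Nat.Prime 3) := ⟨Nat.prime_three⟩
  obtain ⟨P, hP⟩ := hK.exists_le_sylow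
  refine ⟨P, hP, Nat.dvd_antisymm (syl_bound hG P.isPGroup') ?_, P.isPGroup'⟩
  exact P.pow_dvd_card_of_pow_dvd_card (n := 3) (by rw [hG]; norm_num)

/-- The products of powers of two elements. -/
def pr (a b : G) (p q : Fin 3) : G := a ^ (p : ℕ) * b ^ (q : ℕ)

theorem pr_mul {a b : G} (h : Commute a b) (ha : a ^ 3 = 1) (hb : b ^ 3 = 1) (p q i j : Fin 3) :
    pr a b p q * pr a b i j = pr a b (p + i) (q + j) := by
  rw [pr, pr, pr, Fin.val_add, Fin.val_add, ← pow_eq_pow_mod _ ha, ← pow_eq_pow_mod _ hb, pow_add, pow_add]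
  exact Commute.mul_mul_mul_comm (h.symm.pow_pow _ _) _ _

theorem pr_inv {a b : G} (h : Commute a b) (ha : a ^ 3 = 1) (hb : b ^ 3 = 1) (p q : Fin 3) :
    (pr a b p q)⁻¹ = pr a b (-p) (-q) :=
  inv_eq_of_mul_eq_one_right (by rw [pr_mul h ha hb, add_neg_cancel, add_neg_cancel]; simp [pr])

/-- The subgroup of such products. -/
def prGroup {a b : G} (h : Commute a b) (ha : a ^ 3 = 1) (hb : b ^ 3 = 1) : Subgroup G where
  carrier := {g | ∃ p q, g = pr a b p q}
  one_mem' := ⟨0, 0, by simp [pr]⟩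
  mul_mem' := by
    rintro _ _ ⟨p, q, rfl⟩ ⟨i, j, rfl⟩
    exact ⟨_, _, pr_mul h ha hb p q i j⟩
  inv_mem' := by
    rintro _ ⟨p, q, rfl⟩
    exact ⟨_, _, pr_inv h ha hb p q⟩

/-- Two independent elements, one centralised and one inverted by `t`. -/
theorem pr_injective {t a b : G} (h : Commute a b) (ha : a ^ 3 = 1) (hb : b ^ 3 = 1) (ha1 : a ≠ 1)
    (hb1 : b ≠ 1) (hta : MulAut.conj t a = a) (htb : MulAut.conj t b = b⁻¹) {p q i j : Fin 3}
    (he : pr a b p q = pr a b i j) : p = i ∧ q = j := by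
  haveI : Fact (Nat.Prime 3) := ⟨Nat.prime_three⟩
  have hpr : ∀ p q : Fin 3, MulAut.conj t (pr a b p q) = a ^ (p : ℕ) * (b ^ (q : ℕ))⁻¹ := fun p q => by
    rw [pr, map_mul, map_pow, map_pow, hta, htb, inv_pow]
  have h2 := congrArg (MulAut.conj t) he
  rw [hpr, hpr] at h2
  have h3 : pr a b p q * (a ^ (p : ℕ) * (b ^ (q : ℕ))⁻¹) = pr a b i j * (a ^ (i : ℕ) * (b ^ (j : ℕ))⁻¹) := by
    rw [he, h2]
  have h4 : ∀ p q : Fin 3, pr a b p q * (a ^ (p : ℕ) * (b ^ (q : ℕ))⁻¹) = a ^ (2 * (p : ℕ)) := fun p q => by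
    rw [pr, mul_assoc, ← mul_assoc (b ^ (q : ℕ)), ← (h.pow_pow (p : ℕ) (q : ℕ)).eq, mul_assoc,
      mul_inv_cancel, mul_one, ← pow_add, two_mul]
  rw [h4, h4] at h3
  have hp : p = i := by
    have h5 := pow_inj_mod.mp h3
    rw [orderOf_eq_prime ha ha1] at h5
    exact Fin.ext (by omega)
  subst hp
  refine ⟨rfl, ?_⟩
  have h6 := pow_inj_mod.mp (mul_left_cancel he)
  rw [orderOf_eq_prime hb hb1] at h6
  exact Fin.ext (by omega)

theorem card_prGroup {t a b : G} (h : Commute a b) (ha : a ^ 3 = 1) (hb : b ^ 3 = 1) (ha1 : a ≠ 1)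
    (hb1 : b ≠ 1) (hta : MulAut.conj t a = a) (htb : MulAut.conj t b = b⁻¹) :
    Nat.card (prGroup h ha hb) = 9 := by
  rw [show 9 = Nat.card (Fin 3 × Fin 3) by simp]
  refine (Nat.card_congr (Equiv.ofBijective
    (fun x : Fin 3 × Fin 3 => (⟨pr a b x.1 x.2, _, _, rfl⟩ : prGroup h ha hb)) ⟨?_, ?_⟩)).symm
  · intro x y hxy
    obtain ⟨h1, h2⟩ := pr_injective h ha hb ha1 hb1 hta htb (congrArg Subtype.val hxy)
    exact Prod.ext h1 h2
  · rintro ⟨g, p, q, rfl⟩
    exact ⟨(p, q), rfl⟩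

theorem fin3_check : ∀ p q i j : Fin 3, p ≠ 0 → q ≠ 0 → i ≠ 0 → j ≠ 0 →
    i = p ∧ j = q ∨ i = -p ∧ j = -q ∨ i = p ∧ j = -q ∨ i = -p ∧ j = q := by decide

theorem fin3_cases : ∀ p : Fin 3, p = 0 ∨ p = 1 ∨ p = 2 := by decide

namespace Frame

variable {t : G} (F : Frame t)

theorem big_x (hG : Nat.card G = 5616) {a : G} (ha3 : a ^ 3 = 1) (ha1 : a ≠ 1) (hxa : Commute F.x a)
    (hta : MulAut.conj t a = a⁻¹) (hbig : Big a → Big F.x) : Big F.x := by
  haveI : Fact (Nat.Prime 3) := ⟨Nat.prime_three⟩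
  have htx := F.t_x
  set A := prGroup hxa F.x3 ha3 with hA
  have hA9 : Nat.card A = 9 := card_prGroup hxa F.x3 ha3 F.x1 ha1 htx hta
  have hxA : F.x ∈ A := ⟨1, 0, by simp [pr]⟩
  have hAx : ∀ b ∈ A, Commute F.x b := by
    rintro _ ⟨p, q, rfl⟩
    exact (Commute.self_pow _ _).mul_right (hxa.pow_right _)
  obtain ⟨P, hAP, hP, hPp⟩ := exists_sylow_ge hG
    (IsPGroup.of_card (p := 3) (n := 2) (G := A) (by rw [hA9]; norm_num))
  have grow : ∀ (P₀ : Subgroup G), A ≤ P₀ → Nat.card P₀ = 27 →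
      ∀ g ∈ P₀, g ∉ A → Commute F.x g → Big F.x := by
    intro P₀ hle hcard g hg hgA hxg
    refine big_of_gt hcard (K := P₀ ⊓ Subgroup.centralizer ({F.x} : Set G)) inf_le_left
      (fun k hk => (Subgroup.mem_centralizer_singleton_iff.mp hk.2).symm) ?_
    by_contra hle'
    have : A = P₀ ⊓ Subgroup.centralizer ({F.x} : Set G) := Subgroup.eq_of_le_of_card_ge
      (le_inf hle fun b hb => Subgroup.mem_centralizer_singleton_iff.mpr (hAx b hb).eq.symm)
      (by rw [hA9]; omega)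
    exact hgA (this ▸ ⟨hg, Subgroup.mem_centralizer_singleton_iff.mpr hxg.eq.symm⟩)
  haveI : Nontrivial P := Finite.one_lt_card_iff_nontrivial.mp (by rw [hP]; norm_num)
  obtain ⟨⟨z, hzP⟩, hzc, hz1⟩ :=
    (Subgroup.nontrivial_iff_exists_ne_one _).mp hPp.center_nontrivial
  have hzcomm : ∀ g ∈ P, Commute g z := fun g hg =>
    congrArg (Subtype.val : P → G) (Subgroup.mem_center_iff.mp hzc ⟨g, hg⟩)
  by_cases hzA : z ∈ A
  swap
  · exact grow P hAP hP z hzP hzA (hzcomm F.x (hAP hxA))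
  have hbz : Big z := big_of_gt hP le_rfl (fun k hk => (hzcomm k hk).symm) (by rw [hP]; norm_num)
  have hbone : ∀ p : Fin 3, p ≠ 0 → ∀ c : G, c ^ 3 = 1 → Big (c ^ (p : ℕ)) → Big c := by
    intro p hp c hc hb
    rcases fin3_cases p with rfl | rfl | rfl
    · exact absurd rfl hp
    · simpa using hb
    · have : c ^ ((2 : Fin 3) : ℕ) = c⁻¹ := by
        refine eq_inv_of_mul_eq_one_left ?_
        rw [← pow_succ]; exact hc
      rw [this] at hb
      exact big_inv.mp hb
  obtain ⟨p, q, rfl⟩ := hzA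
  have hpq : ¬ (p = 0 ∧ q = 0) := fun ⟨h1, h2⟩ => hz1 (Subtype.ext (by simp [pr, h1, h2]))
  by_cases hq : q = 0
  · exact hbone p (fun h => hpq ⟨h, hq⟩) _ F.x3 (by simpa [pr, hq] using hbz)
  by_cases hp : p = 0
  · exact hbig (hbone q hq _ ha3 (by simpa [pr, hp] using hbz))
  -- the conjugate Sylow subgroup
  have htpr : ∀ i j : Fin 3, MulAut.conj t (pr F.x a i j) = pr F.x a i (-j) := by
    intro i j
    rw [pr, pr, map_mul, map_pow, map_pow, htx, hta]
    congr 1
    rcases fin3_cases j with rfl | rfl | rfl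
    · simp
    · show a⁻¹ ^ 1 = a ^ 2
      rw [pow_one]
      exact inv_eq_of_mul_eq_one_right (by rw [← pow_succ']; exact ha3)
    · show a⁻¹ ^ 2 = a ^ 1
      rw [pow_one, inv_pow]
      exact inv_eq_of_mul_eq_one_right (by rw [← pow_succ]; exact ha3)
  set P' := P.map (MulAut.conj t : G ≃* G).toMonoidHom with hP'
  have hP'card : Nat.card P' = 27 := by
    rw [hP', Subgroup.card_map_of_injective (MulAut.conj t : G ≃* G).injective, hP]
  have hAP' : A ≤ P' := by
    rintro _ ⟨i, j, rfl⟩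
    exact ⟨pr F.x a i (-j), hAP ⟨_, _, rfl⟩, (htpr i (-j)).trans (by rw [neg_neg])⟩
  have hz' : ∀ g ∈ P', Commute g (pr F.x a p (-q)) := by
    rintro _ ⟨g, hg, rfl⟩
    rw [← htpr]
    exact (hzcomm g hg).map (MulAut.conj t)
  obtain ⟨n, hnP, hnA⟩ : ∃ n ∈ P', n ∉ A := by
    by_contra hno
    push Not at hno
    have := Subgroup.card_le_of_le (show P' ≤ A from hno)
    omega
  have hnorm : ∀ b ∈ A, MulAut.conj n b ∈ A := by
    intro b hb
    haveI : (A.subgroupOf P').Normal := by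
      have hidx : (A.subgroupOf P').index = 3 := by
        have h := Subgroup.card_mul_index (A.subgroupOf P')
        rw [Nat.card_congr (Subgroup.subgroupOfEquivOfLe hAP').toEquiv, hA9, hP'card] at h
        omega
      refine Subgroup.normal_of_index_eq_minFac_card ?_
      rw [hidx, hP'card]; norm_num
    exact Subgroup.mem_subgroupOf.mp
      (this.conj_mem ⟨b, hAP' hb⟩ (Subgroup.mem_subgroupOf.mpr hb) ⟨n, hnP⟩)
  by_cases hnz : Commute n (pr F.x a p q)
  · refine grow P' hAP' hP'card n hnP hnA ?_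
    have h := hnz.mul_right (hz' n hnP)
    rw [pr_mul hxa F.x3 ha3, add_neg_cancel] at h
    rcases fin3_cases p with rfl | rfl | rfl
    · exact absurd rfl hp
    · have h' : Commute n (F.x ^ 2) := by simpa [pr] using h
      have h'' := h'.pow_right 2
      rw [← pow_mul, show 2 * 2 = 3 + 1 from rfl, pow_succ, F.x3, one_mul] at h''
      exact h''.symm
    · have h' : Commute n (F.x ^ ((2 + 2 : Fin 3) : ℕ)) := by simpa [pr] using h
      rw [show ((2 + 2 : Fin 3) : ℕ) = 1 from rfl, pow_one] at h'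
      exact h'.symm
  obtain ⟨i, j, hij⟩ := hnorm _ (⟨p, q, rfl⟩ : pr F.x a p q ∈ A)
  have hbn : Big (pr F.x a i j) := hij ▸ big_conj.mpr hbz
  have hinj := @pr_injective G _ _ t F.x a hxa F.x3 ha3 F.x1 ha1 htx hta
  by_cases hj : j = 0
  · refine hbone i (fun hi => ?_) _ F.x3 (by simpa [pr, hj] using hbn)
    subst hi hj
    rw [show pr F.x a 0 0 = 1 by simp [pr]] at hij
    exact hz1 (Subtype.ext ((MulAut.conj n).injective (hij.trans (map_one _).symm)))
  by_cases hi : i = 0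
  · exact hbig (hbone j hj _ ha3 (by simpa [pr, hi] using hbn))
  exfalso
  have hfix : MulAut.conj n (pr F.x a p (-q)) = pr F.x a p (-q) :=
    conj_eq_of_commute (hz' n hnP)
  rcases fin3_check p q i j hp hq hi hj with ⟨rfl, rfl⟩ | ⟨rfl, rfl⟩ | ⟨rfl, rfl⟩ | ⟨h1, h2⟩
  · exact hnz (commute_of_conj_eq hij)
  · rw [← pr_inv hxa F.x3 ha3] at hij
    have h2 : MulAut.conj (n * n) (pr F.x a p q) = pr F.x a p q := by
      rw [← conj_conj, hij, map_inv, hij, inv_inv]
    have h3 := (commute_of_conj_eq h2).pow_left 14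
    rw [← pow_two, ← pow_mul, show 2 * 14 = 27 + 1 from rfl, pow_succ,
      pow_27_of_mem (hP'card ▸ dvd_rfl) hnP, one_mul] at h3
    exact hnz h3
  · obtain ⟨-, h⟩ := hinj ((MulAut.conj n).injective (hij.trans hfix.symm))
    exact (by decide : ∀ q : Fin 3, q ≠ 0 → q ≠ -q) q hq h
  · rw [h1, h2] at hij
    obtain ⟨h, -⟩ := hinj ((MulAut.conj n).injective (a₂ := pr F.x a (-p) q) (by
      rw [hij, show pr F.x a (-p) q = (pr F.x a p (-q))⁻¹ by rw [pr_inv hxa F.x3 ha3, neg_neg],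
        map_inv, hfix]))
    exact (by decide : ∀ q : Fin 3, q ≠ 0 → q ≠ -q) p hp h

/-- Two commuting conjugates with exponents lead to a contradiction. -/
theorem no_triangle (hG : Nat.card G = 5616) (h : Commute F.x (MulAut.conj F.r F.x)) : False := by
  haveI : Fact (Nat.Prime 3) := ⟨Nat.prime_three⟩
  set x1 := MulAut.conj F.r F.x with hx1
  set x2 := MulAut.conj F.r x1 with hx2
  have h3 : MulAut.conj F.r x2 = F.x := by
    rw [hx2, hx1, conj_conj, conj_conj, ← pow_two, ← pow_succ, F.r3, map_one, MulAut.one_apply]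
  have h12 : Commute x1 x2 := h.map (MulAut.conj F.r)
  have h20 : Commute x2 F.x := h3 ▸ h12.map (MulAut.conj F.r)
  obtain ⟨hu1, ht1, ht2, hu2⟩ := F.rot_inv F.t_x F.ux
  have hone : x1 ≠ 1 := fun hh => F.x1 ((MulAut.conj F.r).injective (hh.trans (map_one _).symm))
  have hcube : x1 ^ 3 = 1 := by rw [hx1, ← map_pow, F.x3, map_one]
  set E := Subgroup.closure ({F.x, x1, x2} : Set G) with hE
  have hgen : ∀ a ∈ ({F.x, x1, x2} : Set G), ∀ b ∈ ({F.x, x1, x2} : Set G), Commute a b := by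
    rintro a (rfl | rfl | rfl) b (rfl | rfl | rfl) <;>
      first | exact Commute.refl _ | exact h | exact h.symm | exact h12 | exact h12.symm | exact h20 | exact h20.symm
  have hEc : ∀ a ∈ E, ∀ b ∈ E, Commute a b := by
    have h1 : ∀ a ∈ ({F.x, x1, x2} : Set G), ∀ b ∈ E, Commute a b := fun a ha b hb =>
      (Subgroup.mem_centralizer_singleton_iff.mp
        ((Subgroup.closure_le _).mpr (fun c hc =>
          Subgroup.mem_centralizer_singleton_iff.mpr (hgen c hc a ha).eq) hb)).symm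
    intro a ha b hb
    exact Subgroup.mem_centralizer_singleton_iff.mp
      ((Subgroup.closure_le _).mpr (fun c hc =>
        Subgroup.mem_centralizer_singleton_iff.mpr (h1 c hc b hb).eq) ha)
  have hEp : IsPGroup 3 E := by
    rintro ⟨a, ha⟩
    refine ⟨1, Subtype.ext ?_⟩
    suffices a ^ 3 = 1 by simpa using this
    refine Subgroup.closure_induction (p := fun a _ => a ^ 3 = 1) ?_ (one_pow 3) ?_ ?_ ha
    · rintro a (rfl | rfl | rfl)
      · exact F.x3
      · exact hcube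
      · rw [hx2, ← map_pow, hcube, map_one]
    · intro a b ha hb h1 h2
      rw [(hEc a ha b hb).mul_pow, h1, h2, one_mul]
    · intro a _ h1
      rw [inv_pow, h1, inv_one]
  have hrE : F.r ∉ E := by
    intro hr
    have hx := conj_eq_of_commute (hEc _ hr _ (Subgroup.subset_closure (Or.inl rfl)))
    have hx' : x1 = F.x := hx
    rw [← hx1, hx', F.t_x] at ht1
    apply F.x1
    calc F.x = F.x ^ 3 * (F.x * F.x)⁻¹ := by group
      _ = 1 := by
        rw [F.x3, one_mul, mul_eq_one_iff_eq_inv.mpr ht1, inv_one]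
  have hR : IsPGroup 3 (Subgroup.zpowers F.r) := by
    intro ⟨a, ha⟩
    refine ⟨1, Subtype.ext ?_⟩
    obtain ⟨k, rfl⟩ := Subgroup.mem_zpowers_iff.mp ha
    simp only [pow_one, SubmonoidClass.mk_pow, OneMemClass.coe_one]
    rw [← zpow_natCast, ← zpow_mul, mul_comm k, zpow_mul, zpow_natCast, F.r3, _root_.one_zpow]
  have hnorm : Subgroup.zpowers F.r ≤ Subgroup.normalizer (E : Set G) := by
    rw [Subgroup.zpowers_le]
    have hmap : E.map (MulAut.conj F.r : G ≃* G).toMonoidHom = E := by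
      rw [hE, MonoidHom.map_closure]
      congr 1
      simp only [Set.image_insert_eq, Set.image_singleton, MulEquiv.coe_toMonoidHom]
      rw [← hx1, ← hx2, h3]
      ext a
      simp only [Set.mem_insert_iff, Set.mem_singleton_iff]
      tauto
    rw [Subgroup.mem_normalizer_iff]
    intro b
    conv_rhs => rw [← hmap]
    refine ⟨fun hb => ⟨b, hb, rfl⟩, ?_⟩
    rintro ⟨c, hc, hcb⟩
    rwa [(MulAut.conj F.r).injective (hcb : MulAut.conj F.r c = MulAut.conj F.r b)] at hc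
  have hsup : IsPGroup 3 ↥(Subgroup.zpowers F.r ⊔ E : Subgroup G) := hR.to_sup_of_normal_right' hEp hnorm
  have hd := syl_bound hG hsup
  have hA9 : Nat.card (prGroup h F.x3 hcube) = 9 :=
    card_prGroup h F.x3 hcube F.x1 hone F.t_x ht1
  have hx2A : x2 ∉ prGroup h F.x3 hcube := by
    rintro ⟨p, q, hpq⟩
    have e1 := congrArg (MulAut.conj F.u) hpq
    have e2 := congrArg (MulAut.conj t) hpq
    rw [hu2, pr, map_mul, map_pow, map_pow, F.ux, hu1] at e1
    rw [ht2, pr, map_mul, map_pow, map_pow, F.t_x, ht1] at e2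
    have e3 : pr F.x x1 (-p) q = pr F.x x1 p (-q) := by
      have aux : ∀ (c : G), c ^ 3 = 1 → ∀ p : Fin 3, c⁻¹ ^ (p : ℕ) = c ^ ((-p : Fin 3) : ℕ) := by
        intro c hc p
        rw [inv_pow]
        refine inv_eq_of_mul_eq_one_right ?_
        rw [← pow_add, pow_eq_pow_mod _ hc, ← Fin.val_add, add_neg_cancel]
        exact pow_zero c
      rw [pr, pr, ← aux _ F.x3, ← aux _ hcube]
      exact e1.symm.trans e2
    obtain ⟨h1, h2⟩ := pr_injective h F.x3 hcube F.x1 hone F.t_x ht1 e3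
    have h1' := (by decide : ∀ q : Fin 3, -q = q → q = 0) p h1
    have h2' := (by decide : ∀ q : Fin 3, q = -q → q = 0) q h2
    subst h1' h2'
    exact hone ((MulAut.conj F.r).injective (hpq.trans (by simp [pr]) : x2 = MulAut.conj F.r 1) )
  have hAE : prGroup h F.x3 hcube < E := by
    refine lt_of_le_of_ne ?_ fun he => hx2A (he ▸ Subgroup.subset_closure (Or.inr (Or.inr rfl)))
    rintro _ ⟨p, q, rfl⟩
    exact E.mul_mem (E.pow_mem (Subgroup.subset_closure (Or.inl rfl)) _)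
      (E.pow_mem (Subgroup.subset_closure (Or.inr (Or.inl rfl))) _)
  have h9 : 9 < Nat.card E := by
    refine lt_of_le_of_ne (hA9 ▸ Subgroup.card_le_of_le hAE.le) fun he => hAE.ne ?_
    exact Subgroup.eq_of_le_of_card_ge hAE.le (by omega)
  have hE27 : 27 ∣ Nat.card E := by
    have hdE := syl_bound hG hEp
    have hle := Nat.le_of_dvd (by norm_num) hdE
    generalize Nat.card E = n at h9 hdE hle ⊢
    interval_cases n <;> revert hdE <;> decide
  have := Subgroup.eq_of_le_of_card_ge (le_sup_right : E ≤ Subgroup.zpowers F.r ⊔ E)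
    ((Nat.le_of_dvd (by norm_num) hd).trans (Nat.le_of_dvd Nat.card_pos hE27))
  exact hrE (this ▸ (le_sup_left : _ ≤ Subgroup.zpowers F.r ⊔ E) (Subgroup.mem_zpowers _))

/-- The commutator of two elements of a subgroup of order `27` lies in a central subgroup of order three. -/
theorem comm_mem {Q : Subgroup G} (hQ : Nat.card Q = 27) (hx : F.x ∈ Q) (hc : ∀ q ∈ Q, Commute F.x q)
    {a b : G} (ha : a ∈ Q) (hb : b ∈ Q) : ⁅a, b⁆ ∈ Subgroup.zpowers F.x := by
  haveI : Fact (Nat.Prime 3) := ⟨Nat.prime_three⟩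
  set N : Subgroup Q := (Subgroup.zpowers F.x).subgroupOf Q with hN
  haveI : N.Normal := by
    refine ⟨fun g hg k => ?_⟩
    rw [hN, Subgroup.mem_subgroupOf] at hg ⊢
    obtain ⟨i, hi⟩ := Subgroup.mem_zpowers_iff.mp hg
    have : (k : G) * (g : G) * (k : G)⁻¹ = g := by
      rw [← hi, ← ((hc _ k.2).zpow_left i).eq, mul_inv_cancel_right]
    simpa [this] using hg
  have hcardN : Nat.card N = 3 := by
    rw [hN, Nat.card_congr (Subgroup.subgroupOfEquivOfLe (Subgroup.zpowers_le.mpr hx)).toEquiv,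
      Nat.card_zpowers, orderOf_eq_prime F.x3 F.x1]
  have hq : Nat.card (Q ⧸ N) = 3 ^ 2 := by
    have h := Subgroup.card_eq_card_quotient_mul_card_subgroup N
    rw [hQ, hcardN] at h
    omega
  have hcomm := IsPGroup.commutative_of_card_eq_prime_sq (p := 3) hq
  have h1 : (QuotientGroup.mk' N) ⁅(⟨a, ha⟩ : Q), (⟨b, hb⟩ : Q)⁆ = 1 := by
    rw [commutatorElement_def, map_mul, map_mul, map_mul, map_inv, map_inv]
    rw [(hcomm _ _ : (QuotientGroup.mk' N) (⟨a, ha⟩ : Q) * (QuotientGroup.mk' N) (⟨b, hb⟩ : Q) = _)]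
    group
  exact Subgroup.mem_subgroupOf.mp ((QuotientGroup.eq_one_iff (N := N) _).mp h1)

include F in
theorem nonempty_hex (hG : Nat.card G = 5616) : Nonempty (Hex G) := by
  obtain ⟨Q, hd, hx, hcx, htQ, huQ, hj⟩ := F.exists_Q hG fun K hK => syl_bound hG hK
  have e_rr : ∀ a, MulAut.conj (F.r * F.r) a = MulAut.conj F.r (MulAut.conj F.r a) := fun a =>
    (conj_conj _ _ _).symm
  have inv_facts := F.rot_inv F.t_x F.ux
  have inv_factsy := F.rot_inv F.t_y F.u_y
  have htuQ : ∀ q ∈ Q, MulAut.conj (t * F.u) q ∈ Q := fun q hq => F.conj_t_u q ▸ htQ _ (huQ q hq)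
  have hs1 : MulAut.conj F.r t = F.u := F.rt
  have hs2 : MulAut.conj (F.r * F.r) t = t * F.u := by rw [e_rr, F.rt, F.ru]
  have hu2 : MulAut.conj (F.r * F.r) F.u = t := by rw [e_rr, F.ru, F.rtu]
  have cases1 : ∀ a ∈ Q, a ≠ 1 → MulAut.conj F.u a = a →
      a = MulAut.conj F.r F.x ∨ a = (MulAut.conj F.r F.x)⁻¹ ∨ a = MulAut.conj F.r F.y ∨
        a = (MulAut.conj F.r F.y)⁻¹ := fun a ha ha1 hs =>
    ident hd F.r ha ha1 (hs1.symm ▸ commute_of_conj_eq hs) (F.ru.symm ▸ htuQ a ha)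
  have cases2 : ∀ a ∈ Q, a ≠ 1 → MulAut.conj (t * F.u) a = a →
      a = MulAut.conj (F.r * F.r) F.x ∨ a = (MulAut.conj (F.r * F.r) F.x)⁻¹ ∨
        a = MulAut.conj (F.r * F.r) F.y ∨ a = (MulAut.conj (F.r * F.r) F.y)⁻¹ := fun a ha ha1 hs =>
    ident hd (F.r * F.r) ha ha1 (hs2.symm ▸ commute_of_conj_eq hs) (hu2.symm ▸ htQ a ha)
  have hbigy : ∀ g, Big (MulAut.conj g F.y) → Big F.x := fun g h => big_conj.mp (big_conj.mp h)
  -- the centraliser of `x` has order divisible by twenty-seven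
  have hbig : Big F.x := by
    by_cases h27 : Nat.card Q = 27
    · exact big_of_gt h27 le_rfl hcx (by rw [h27]; norm_num)
    obtain ⟨s, hs, a, haQ, ha1, hsa⟩ := neighbour hd (hj 2 (F.nine_dvd hG)) hx htQ huQ
      fun h => absurd h h27
    have key : MulAut.conj t a = a⁻¹ ∧ a ^ 3 = 1 ∧ (Big a → Big F.x) := by
      have hy3 : F.y ^ 3 = 1 := by rw [y, ← map_pow, F.x3, map_one]
      rcases hs with rfl | rfl
      · rcases cases1 a haQ ha1 hsa with rfl | rfl | rfl | rfl
        · exact ⟨inv_facts.2.1, by rw [← map_pow, F.x3, map_one], big_conj.mp⟩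
        · exact ⟨by rw [map_inv, inv_facts.2.1], by rw [inv_pow, ← map_pow, F.x3, map_one, inv_one],
            fun h => big_conj.mp (big_inv.mp h)⟩
        · exact ⟨inv_factsy.2.1, by rw [← map_pow, hy3, map_one], hbigy _⟩
        · exact ⟨by rw [map_inv, inv_factsy.2.1], by rw [inv_pow, ← map_pow, hy3, map_one, inv_one],
            fun h => hbigy _ (big_inv.mp h)⟩
      · rcases cases2 a haQ ha1 hsa with rfl | rfl | rfl | rfl
        · exact ⟨by rw [e_rr]; exact inv_facts.2.2.1, by rw [← map_pow, F.x3, map_one], big_conj.mp⟩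
        · exact ⟨by rw [map_inv, e_rr, inv_facts.2.2.1],
            by rw [inv_pow, ← map_pow, F.x3, map_one, inv_one], fun h => big_conj.mp (big_inv.mp h)⟩
        · exact ⟨by rw [e_rr]; exact inv_factsy.2.2.1, by rw [← map_pow, hy3, map_one], hbigy _⟩
        · exact ⟨by rw [map_inv, e_rr, inv_factsy.2.2.1],
            by rw [inv_pow, ← map_pow, hy3, map_one, inv_one], fun h => hbigy _ (big_inv.mp h)⟩
    exact F.big_x hG key.2.1 ha1 (hcx a haQ) key.1 key.2.2
  have hQ : Nat.card Q = 27 := Nat.dvd_antisymm hd (hj 3 hbig)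
  have hn1 : ¬ Commute F.x (MulAut.conj F.r F.x) := fun h => F.no_triangle hG h
  have hn2 : ¬ Commute F.x (MulAut.conj (F.r * F.r) F.x) := by
    intro h
    refine hn1 ?_
    have := h.map (MulAut.conj F.r)
    rw [conj_conj, ← mul_assoc, ← pow_two, ← pow_succ, F.r3, map_one, MulAut.one_apply] at this
    exact this.symm
  have hy1 : MulAut.conj F.r F.y ∈ Q := by
    obtain ⟨a, haQ, hs, ha1⟩ : ∃ a ∈ Q, MulAut.conj F.u a = a ∧ a ≠ 1 := by
      simpa using not_free hQ htQ huQ (s := F.u) (Or.inl rfl)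
    rcases cases1 a haQ ha1 hs with rfl | rfl | rfl | rfl
    · exact absurd (hcx _ haQ) hn1
    · exact absurd (Commute.inv_right_iff.mp (hcx _ haQ)) hn1
    · exact haQ
    · exact Q.inv_mem_iff.mp haQ
  have hy2 : MulAut.conj (F.r * F.r) F.y ∈ Q := by
    obtain ⟨a, haQ, hs, ha1⟩ : ∃ a ∈ Q, MulAut.conj (t * F.u) a = a ∧ a ≠ 1 := by
      simpa using not_free hQ htQ huQ (s := t * F.u) (Or.inr rfl)
    rcases cases2 a haQ ha1 hs with rfl | rfl | rfl | rfl
    · exact absurd (hcx _ haQ) hn2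
    · exact absurd (Commute.inv_right_iff.mp (hcx _ haQ)) hn2
    · exact haQ
    · exact Q.inv_mem_iff.mp haQ
  set a := MulAut.conj (F.r * F.r) F.y with ha
  set b := MulAut.conj F.r F.y with hb
  have hne : ⁅a, b⁆ ≠ 1 := by
    intro h
    refine hn2 ?_
    have h1 : Commute a b := commutatorElement_eq_one_iff_mul_comm.mp h
    have h2 := (h1.map (MulAut.conj F.r⁻¹)).map (MulAut.conj F.w)
    have e1 : F.w * F.r = F.r * F.r * F.w := by
      calc F.w * F.r = F.r ^ 3 * (F.w * F.r) * (F.w * F.w) := by rw [F.r3, F.ww, one_mul, mul_one]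
        _ = F.r * F.r * (F.r * F.w * (F.r * F.w)) * F.w := by simp only [pow_succ, pow_zero, one_mul, mul_assoc]
        _ = F.r * F.r * F.w := by rw [F.rw2, mul_one]
    rw [ha, hb, conj_conj, conj_conj, conj_conj, conj_conj, y, conj_conj, conj_conj] at h2
    rw [show F.w * F.r⁻¹ * (F.r * F.r) * F.w = F.r * F.r by
        rw [show F.w * F.r⁻¹ * (F.r * F.r) = F.w * F.r by group, e1, mul_assoc, F.ww, mul_one],
      show F.w * F.r⁻¹ * F.r * F.w = 1 by rw [inv_mul_cancel_right, F.ww], map_one,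
      MulAut.one_apply] at h2
    exact h2.symm
  have hmem := F.comm_mem hQ hx hcx hy2 hy1
  haveI : Fact (Nat.Prime 3) := ⟨Nat.prime_three⟩
  classical
  obtain ⟨k, hk, hke⟩ := Finset.mem_image.mp (mem_zpowers_iff_mem_range_orderOf.mp hmem)
  rw [Finset.mem_range, orderOf_eq_prime F.x3 F.x1] at hk
  have hc1 : Commute F.x (MulAut.conj F.r (MulAut.conj F.w F.x)) := hcx _ hy1
  have hc2 : Commute F.x (MulAut.conj F.r (MulAut.conj F.r (MulAut.conj F.w F.x))) := by
    rw [← e_rr]; exact hcx _ hy2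
  have hbr : ⁅MulAut.conj F.r (MulAut.conj F.r (MulAut.conj F.w F.x)),
      MulAut.conj F.r (MulAut.conj F.w F.x)⁆ = ⁅a, b⁆ := by rw [ha, hb, e_rr]; rfl
  interval_cases k
  · exact absurd (by rw [← hke, pow_zero]) hne
  · exact ⟨⟨F.x, F.r, F.w, F.x3, F.x1, F.r3, F.ww, F.rw2, hc1, hc2, by rw [hbr, ← hke, pow_one]⟩⟩
  · have hx2 : F.x ^ 2 = F.x⁻¹ := eq_inv_of_mul_eq_one_left (by rw [← pow_succ, F.x3])
    refine ⟨⟨F.x⁻¹, F.r, F.w, by rw [inv_pow, F.x3, inv_one], fun h => F.x1 (inv_eq_one.mp h),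
      F.r3, F.ww, F.rw2, ?_, ?_, ?_⟩⟩
    · simpa only [map_inv] using hc1.inv_inv
    · simpa only [map_inv] using hc2.inv_inv
    · have hsq : ∀ g : G, g ^ 3 = 1 → g⁻¹ = g ^ 2 := fun g hg =>
        (eq_inv_of_mul_eq_one_left (by rw [← pow_succ, hg])).symm
      simp only [map_inv]
      rw [hsq _ (by simp only [← map_pow, F.x3, map_one]), hsq (MulAut.conj F.r (MulAut.conj F.w F.x))
          (by simp only [← map_pow, F.x3, map_one]),
        Hex.bracket_pow (hbr.trans (hke.symm.trans hx2)) hc2.symm.inv_right hc1.symm.inv_right,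
        show (2 : ℕ) * 2 = 3 + 1 from rfl, pow_succ, inv_pow, F.x3, inv_one, one_mul]

end Frame

/-- A group of order `5616` with an involution centraliser `GL(2,3)` and one class of involutions. -/
theorem nonempty_psl_of_card {t : G} (ht : orderOf t = 2)
    (e : Subgroup.centralizer ({t} : Set G) ≃* Matrix.GeneralLinearGroup (Fin 2) (ZMod 3))
    (hcls : ∀ u : G, orderOf u = 2 → IsConj t u) (hG : Nat.card G = 5616) :
    Nonempty (G ≃* Matrix.ProjectiveSpecialLinearGroup (Fin 3) (ZMod 3)) := by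
  obtain ⟨F⟩ := exists_frame ht e hcls
  obtain ⟨H⟩ := F.nonempty_hex hG
  exact H.nonempty_psl hG

end Cfsg.Agent.GLTwoThree
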