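import Cfsg.Agent.Lib.GLTwoThree.Model
import Cfsg.Agent.Lib.Char.Induction
import Cfsg.Agent.Lib.Char.Complete

/-!
# Generalised characters of a group isomorphic to `GL(2,3)` supported on the special classes
-/

set_option autoImplicit false
set_option linter.style.haveILetI false

namespace Cfsg.Agent.GLTwoThree

open Cfsg Cfsg.Agent.Char
open scoped ComplexConjugate

universe u

/-- An eighth root of unity. -/
noncomputable def zeta : ℂ := ⟨Real.sqrt 2 / 2, Real.sqrt 2 / 2⟩

/-- The square root of `-2`. -/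
noncomputable def rr : ℂ := ⟨0, Real.sqrt 2⟩

theorem zeta_sq : zeta ^ 2 = Complex.I := by
  have h := Real.mul_self_sqrt (show (0 : ℝ) ≤ 2 by norm_num)
  apply Complex.ext <;> simp [zeta, pow_two, Complex.mul_re, Complex.mul_im]
  ring_nf
  rw [pow_two, h]
  norm_num

theorem zeta_four : zeta ^ 4 = -1 := by
  rw [show 4 = 2 * 2 by norm_num, pow_mul, zeta_sq, Complex.I_sq]

theorem zeta_eight : zeta ^ 8 = 1 := by
  rw [show 8 = 4 * 2 by norm_num, pow_mul, zeta_four, neg_one_sq]

theorem zeta_add : zeta + zeta ^ 3 = rr := by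
  rw [pow_succ zeta 2, zeta_sq]
  apply Complex.ext <;> simp [zeta, rr]

theorem rr_conj : conj rr = -rr := by
  apply Complex.ext <;> simp [rr]

theorem rr_sq : rr * rr = -2 := by
  apply Complex.ext <;> simp [rr, Real.mul_self_sqrt (show (0 : ℝ) ≤ 2 by norm_num)]

/-- The character values. -/
noncomputable def ev (p : ℤ × ℤ) : ℂ := (p.1 : ℂ) + (p.2 : ℂ) * rr

theorem ev_mul_conj (p q : ℤ × ℤ) : ev p * conj (ev q) =
    ((p.1 * q.1 + 2 * p.2 * q.2 : ℤ) : ℂ) + ((p.2 * q.1 - p.1 * q.2 : ℤ) : ℂ) * rr := by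
  simp only [ev, map_add, map_mul, map_intCast, rr_conj]
  push_cast
  linear_combination -((p.2 : ℂ) * q.2) * rr_sq

/-- Powers of the root of unity. -/
noncomputable def zp (i : Fin 8) : ℂ := zeta ^ (i : ℕ)

theorem zp_add (a b : Fin 8) : zp (a + b) = zp a * zp b := by
  rw [zp, zp, zp, ← pow_add, Fin.val_add]
  exact (pow_eq_pow_mod _ zeta_eight).symm

theorem sum_zp (C : Fin 8 → ℤ) :
    ∑ i, (C i : ℂ) * zp i = ((C 0 - C 4 : ℤ) : ℂ) + ((C 1 - C 5 : ℤ) : ℂ) * zeta +
      ((C 2 - C 6 : ℤ) : ℂ) * zeta ^ 2 + ((C 3 - C 7 : ℤ) : ℂ) * zeta ^ 3 := by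
  simp only [Fin.sum_univ_eight, zp]
  simp only [Fin.val_zero, Fin.val_one, Fin.val_two, show ((3 : Fin 8) : ℕ) = 3 from rfl,
    show ((4 : Fin 8) : ℕ) = 4 from rfl, show ((5 : Fin 8) : ℕ) = 5 from rfl,
    show ((6 : Fin 8) : ℕ) = 6 from rfl, show ((7 : Fin 8) : ℕ) = 7 from rfl, pow_zero, pow_one]
  push_cast
  linear_combination ((C 4 : ℂ) + (C 5 : ℂ) * zeta + (C 6 : ℂ) * zeta ^ 2 +
    (C 7 : ℂ) * zeta ^ 3) * zeta_four

variable {X : Type u} [Group X] (e : X ≃* Matrix.GeneralLinearGroup (Fin 2) (ZMod 3))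

/-- The coordinates of an element. -/
def co' (x : X) : V := ofGL (e x)

theorem co'_mul (x y : X) : co' e (x * y) = mul (co' e x) (co' e y) := by
  rw [co', map_mul, ofGL_mul]; rfl

theorem co'_one : co' e 1 = one := by rw [co', map_one, ofGL_one]

theorem co'_injective : Function.Injective (co' e) := ofGL_injective.comp e.injective

theorem co'_mem (x : X) : co' e x ∈ U := ofGL_mem _

theorem co'_surj {v : V} (hv : v ∈ U) : ∃ x : X, co' e x = v := by
  obtain ⟨g, hg⟩ := ofGL_surj hv
  exact ⟨e.symm g, by rw [co', e.apply_symm_apply, hg]⟩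

theorem co'_inv (x : X) : co' e x⁻¹ = inv (co' e x) := by
  obtain ⟨h1, h2⟩ := inv_mul' _ (co'_mem e x)
  obtain ⟨y, hy⟩ := co'_surj e h2
  have h3 : co' e (y * x) = co' e 1 := by rw [co'_mul, hy, h1, co'_one]
  rw [← hy, eq_inv_of_mul_eq_one_left (co'_injective e h3)]

theorem co'_conj (x h : X) : co' e (x⁻¹ * h * x) = cj (co' e x) (co' e h) := by
  rw [mul_assoc, co'_mul, co'_mul, co'_inv, cj]

theorem co'_pow (x : X) : ∀ k : ℕ, co' e (x ^ k) = pw (co' e x) k
  | 0 => by rw [pow_zero, co'_one, pw]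
  | k + 1 => by rw [pow_succ', co'_mul, co'_pow x k, pw]

theorem co'_eq_one {x : X} : co' e x = one ↔ x = 1 :=
  ⟨fun h => co'_injective e (h.trans (co'_one e).symm), fun h => h ▸ co'_one e⟩

theorem sum_co' [Fintype X] {M : Type*} [AddCommMonoid M] (F : V → M) :
    ∑ x : X, F (co' e x) = ∑ v ∈ U, F v := by
  refine Finset.sum_bij (fun x _ => co' e x) (fun x _ => co'_mem e x)
    (fun x _ y _ h => co'_injective e h) (fun v hv => ?_) fun _ _ => rfl
  obtain ⟨x, hx⟩ := co'_surj e hv
  exact ⟨x, Finset.mem_univ _, hx⟩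

theorem card_filter_co' [Fintype X] (p : V → Prop) [DecidablePred p] :
    (Finset.univ.filter fun x : X => p (co' e x)).card = (U.filter p).card := by
  rw [Finset.card_filter, Finset.card_filter]
  exact sum_co' e fun v => if p v then 1 else 0

include e in
theorem card_X : Nat.card X = 48 := by
  haveI : Finite X := Finite.of_injective _ (co'_injective e)
  haveI : Fintype X := Fintype.ofFinite X
  rw [Nat.card_eq_fintype_card, ← Finset.card_univ, Finset.card_eq_sum_ones,
    sum_co' e fun _ => 1, ← Finset.card_eq_sum_ones, U_card]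

/-- The domain of a partial character. -/
def dom (j : Fin 8) : Subgroup X where
  carrier := {x | (idx j (co' e x)).isSome}
  one_mem' := by simp [co'_one, idx_one]
  mul_mem' := fun {a b} ha hb => by
    obtain ⟨i, hi⟩ := Option.isSome_iff_exists.mp ha
    obtain ⟨k, hk⟩ := Option.isSome_iff_exists.mp hb
    simp only [Set.mem_setOf_eq, co'_mul]
    rw [idx_mul j _ (co'_mem e a) _ (co'_mem e b) i k hi hk]
    rfl
  inv_mem' := fun {a} ha => by
    simp only [Set.mem_setOf_eq, co'_inv]
    exact idx_inv j _ (co'_mem e a) ha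

/-- The partial character as a linear character. -/
noncomputable def lin (j : Fin 8) : dom e j →* ℂˣ :=
  MonoidHom.toHomUnits
    { toFun := fun x => zp ((idx j (co' e (x : X))).getD 0)
      map_one' := by simp [co'_one, idx_one, zp]
      map_mul' := fun a b => by
        obtain ⟨i, hi⟩ := Option.isSome_iff_exists.mp a.2
        obtain ⟨k, hk⟩ := Option.isSome_iff_exists.mp b.2
        simp only [Subgroup.coe_mul, co'_mul]
        rw [idx_mul j _ (co'_mem e _) _ (co'_mem e _) i k hi hk, hi, hk]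
        simp [zp_add] }

/-- The generalised characters. -/
noncomputable def theta (k : Fin 5) : X → ℂ := fun x => ev (val k (cls (co' e x)))

theorem theta_class (k : Fin 5) : IsClassFunction X (theta e k) := by
  rw [isClassFunction_iff]
  intro a b hab
  obtain ⟨c, hc⟩ := isConj_iff.mp hab
  have h : co' e b = cj (co' e c⁻¹) (co' e a) := by rw [← co'_conj, inv_inv, hc]
  simp only [theta]
  rw [h, cls_conj _ (co'_mem e a) _ (co'_mem e _)]

variable [Fintype X]

theorem indFun_lin (j : Fin 8) (h : X) :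
    indFun (dom e j) (fun x => (lin e j x : ℂ)) h =
      (size j : ℂ)⁻¹ * ∑ i, (cnt j (co' e h) i : ℂ) * zp i := by
  classical
  have hcard : Nat.card (dom e j) = size j := by
    rw [← idx_card j, ← card_filter_co' e, ← Fintype.card_subtype, ← Nat.card_eq_fintype_card]
    rfl
  have key : ∀ x : X, extendByZero (dom e j) (fun x => (lin e j x : ℂ)) (x⁻¹ * h * x) =
      ∑ i, if idx j (cj (co' e x) (co' e h)) = some i then zp i else 0 := by
    intro x
    rw [← co'_conj]
    by_cases hx : x⁻¹ * h * x ∈ dom e j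
    · obtain ⟨i, hi⟩ := Option.isSome_iff_exists.mp hx
      rw [extendByZero_mem _ _ hx]
      simp [lin, hi]
    · rw [extendByZero_not_mem _ _ hx]
      have hn : idx j (co' e (x⁻¹ * h * x)) = none := Option.not_isSome_iff_eq_none.mp hx
      simp [hn]
  rw [indFun_apply, hcard, Finset.sum_congr rfl fun x _ => key x,
    sum_co' e fun v => ∑ i, if idx j (cj v (co' e h)) = some i then zp i else (0 : ℂ),
    Finset.sum_comm]
  refine congrArg _ (Finset.sum_congr rfl fun i _ => ?_)
  rw [← Finset.sum_filter, Finset.sum_const, nsmul_eq_mul, cnt]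

theorem theta_eq (k : Fin 5) :
    theta e k = ∑ j, (co k j : ℂ) • indFun (dom e j) (fun x => (lin e j x : ℂ)) := by
  funext h
  obtain ⟨c, hc, hcj⟩ := exists_conj _ (co'_mem e h)
  obtain ⟨y, rfl⟩ := co'_surj e hc
  have hconj : IsConj h (y⁻¹ * h * y) := isConj_iff.mpr ⟨y⁻¹, by rw [inv_inv]⟩
  have hR : co' e (y⁻¹ * h * y) = rep (cls (co' e h)) := (co'_conj e y h).trans hcj
  simp only [Finset.sum_apply, Pi.smul_apply, smul_eq_mul]
  simp only [isClassFunction_iff.mp (isClassFunction_indFun (dom e _) _) _ _ hconj, indFun_lin, hR,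
    cnt_eq]
  set C := cls (co' e h) with hC
  have hsum : ∑ i, (tot k C i : ℂ) * zp i = 48 * theta e k h := by
    obtain ⟨h0, h1, h2, h3⟩ := val_check k C
    rw [sum_zp, h0, h2, h3, h1, sub_self, theta, ← hC, ev, ← zeta_add]
    push_cast
    ring
  have hrhs : ∑ j, (co k j : ℂ) * ((size j : ℂ)⁻¹ * ∑ i, (tbl j C i : ℂ) * zp i) =
      (48 : ℂ)⁻¹ * ∑ i, (tot k C i : ℂ) * zp i := by
    simp only [tot, Int.cast_sum, Int.cast_mul, Int.cast_natCast, Finset.sum_mul, Finset.mul_sum]
    rw [Finset.sum_comm]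
    refine Finset.sum_congr rfl fun i _ => Finset.sum_congr rfl fun j _ => ?_
    fin_cases j <;> simp [size] <;> ring
  rw [hrhs, hsum]
  ring

theorem theta_gen (k : Fin 5) : IsGeneralizedCharacter X (theta e k) := by
  classical
  rw [theta_eq]
  refine isGeneralizedCharacter_sum _ fun j _ => ?_
  exact IsGeneralizedCharacter.int_smul (IsGeneralizedCharacter.indFun _
    (IsGeneralizedCharacter.of_isCharacter
      (IsIrrCharacter.isCharacter (isIrrCharacter_linear (lin e j))))) _

theorem inner_theta (k l : Fin 5) :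
    classInner (theta e k) (theta e l) = (gram k l : ℂ) / 48 := by
  obtain ⟨g1, g2⟩ := gram_check k l
  rw [← sum_co' e (fun v => (val k (cls v)).1 * (val l (cls v)).1 +
    2 * (val k (cls v)).2 * (val l (cls v)).2)] at g1
  rw [← sum_co' e (fun v => (val k (cls v)).2 * (val l (cls v)).1 -
    (val k (cls v)).1 * (val l (cls v)).2)] at g2
  simp only [Cfsg.classInner, theta, card_X e, ev_mul_conj, Finset.sum_add_distrib, ← Finset.sum_mul,
    ← Int.cast_sum, g1, g2]
  push_cast
  ring

theorem inner_theta_one (k : Fin 5) :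
    classInner (theta e k) (fun _ => 1) = (![1, 1, 0, 0, 0] k : ℤ) := by
  obtain ⟨g1, g2⟩ := sum_check k
  rw [← sum_co' e (fun v => (val k (cls v)).1)] at g1
  rw [← sum_co' e (fun v => (val k (cls v)).2)] at g2
  simp only [Cfsg.classInner, theta, card_X e, map_one, mul_one, ev, Finset.sum_add_distrib,
    ← Finset.sum_mul, ← Int.cast_sum, g1, g2]
  fin_cases k <;> simp

theorem comb_theta (h : X) :
    ∑ k, (comb k : ℂ) * theta e k h = if co' e h = negOne then 48 else 0 := by
  have hc : ∀ v, cls v = 1 ↔ v = negOne := by decide +kernel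
  obtain ⟨h1, h2⟩ := comb_check (cls (co' e h))
  simp only [theta, ev, mul_add, ← mul_assoc, Finset.sum_add_distrib, ← Finset.sum_mul,
    ← Int.cast_mul, ← Int.cast_sum, h1, h2, hc, Int.cast_zero, zero_mul, add_zero]
  split_ifs <;> norm_num

theorem sum_nloc :
    ∑ h : X, theta e 0 h * (nloc (co' e h) : ℂ) = 96 ∧
      ∑ h : X, theta e 1 h * (nloc (co' e h) : ℂ) = 192 := by
  obtain ⟨⟨a1, a2⟩, b1, b2⟩ := count_check
  rw [← sum_co' e (fun v => (val 0 (cls v)).1 * (nloc v : ℤ))] at a1
  rw [← sum_co' e (fun v => (val 0 (cls v)).2 * (nloc v : ℤ))] at a2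
  rw [← sum_co' e (fun v => (val 1 (cls v)).1 * (nloc v : ℤ))] at b1
  rw [← sum_co' e (fun v => (val 1 (cls v)).2 * (nloc v : ℤ))] at b2
  have key : ∀ (k : Fin 5) (A B : ℤ),
      ∑ x : X, (val k (cls (co' e x))).1 * (nloc (co' e x) : ℤ) = A →
      ∑ x : X, (val k (cls (co' e x))).2 * (nloc (co' e x) : ℤ) = B →
      ∑ x : X, theta e k x * (nloc (co' e x) : ℂ) = (A : ℂ) + (B : ℂ) * rr := by
    intro k A B hA hB
    rw [← hA, ← hB]
    simp only [theta, ev, Int.cast_sum, Int.cast_mul, Int.cast_natCast, Finset.sum_mul,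
      ← Finset.sum_add_distrib]
    exact Finset.sum_congr rfl fun x _ => by ring
  exact ⟨by rw [key 0 96 0 a1 a2]; simp, by rw [key 1 192 0 b1 b2]; simp⟩

end Cfsg.Agent.GLTwoThree
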