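import Cfsg.Agent.Lib.SLPres.Main
import Cfsg.Agent.Lib.Classical.SL

/-!
# Six root groups in a hexagon generate a quotient of `SL(3,3)`
-/

set_option autoImplicit false
set_option linter.style.haveILetI false

namespace Cfsg.Agent.GLTwoThree

open Matrix
open scoped commutatorElement

/-- Root elements of order three permuted by a symmetric group of degree three. -/
structure Hex (G : Type*) [Group G] where
  x : G
  r : G
  w : G
  x3 : x ^ 3 = 1
  x1 : x ≠ 1
  r3 : r ^ 3 = 1
  w2 : w * w = 1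
  rw2 : r * w * (r * w) = 1
  c1 : Commute x (MulAut.conj r (MulAut.conj w x))
  c2 : Commute x (MulAut.conj r (MulAut.conj r (MulAut.conj w x)))
  br : ⁅MulAut.conj r (MulAut.conj r (MulAut.conj w x)), MulAut.conj r (MulAut.conj w x)⁆ = x

namespace Hex

variable {G : Type*} [Group G] (H : Hex G)

/-- The root elements. -/
def root (i j : Fin 3) : G :=
  ![![1, H.x, MulAut.conj H.r (MulAut.conj H.r (MulAut.conj H.w H.x))],
    ![MulAut.conj H.w H.x, 1, MulAut.conj H.r H.x],
    ![MulAut.conj H.r (MulAut.conj H.r H.x), MulAut.conj H.r (MulAut.conj H.w H.x), 1]] i j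

theorem rrr (g : G) : MulAut.conj H.r (MulAut.conj H.r (MulAut.conj H.r g)) = g := by
  rw [← MulAut.mul_apply, ← MulAut.mul_apply, ← map_mul, ← map_mul, mul_assoc H.r,
    show H.r * (H.r * H.r) = H.r ^ 3 by rw [pow_succ', pow_two], H.r3, map_one, MulAut.one_apply]

theorem ww (g : G) : MulAut.conj H.w (MulAut.conj H.w g) = g := by
  rw [← MulAut.mul_apply, ← map_mul, H.w2, map_one, MulAut.one_apply]

theorem wr (g : G) : MulAut.conj H.w (MulAut.conj H.r g) =
    MulAut.conj H.r (MulAut.conj H.r (MulAut.conj H.w g)) := by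
  rw [← MulAut.mul_apply, ← MulAut.mul_apply, ← MulAut.mul_apply, ← map_mul, ← map_mul, ← map_mul]
  refine congrArg (fun a => MulAut.conj a g) ?_
  calc H.w * H.r = H.r ^ 3 * (H.w * H.r) * (H.w * H.w) := by rw [H.r3, H.w2, one_mul, mul_one]
    _ = H.r * H.r * (H.r * H.w * (H.r * H.w)) * H.w := by simp only [pow_succ, pow_zero, one_mul, mul_assoc]
    _ = H.r * H.r * H.w := by rw [H.rw2, mul_one]

theorem mapC (φ : MulAut G) {a b : G} (h : Commute a b) : Commute (φ a) (φ b) := h.map φ

theorem mapB (φ : MulAut G) {a b c : G} (h : ⁅a, b⁆ = c) : ⁅φ a, φ b⁆ = φ c := by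
  rw [← h, commutatorElement_def, commutatorElement_def, map_mul, map_mul, map_mul, map_inv, map_inv]

theorem root_brac : ∀ i j l : Fin 3, i ≠ j → j ≠ l → i ≠ l →
    ⁅H.root i j, H.root j l⁆ = H.root i l := by
  have a1 := H.br
  have a2 := mapB (MulAut.conj H.r) a1
  have a3 := mapB (MulAut.conj H.r) a2
  have b1 := mapB (MulAut.conj H.w) a1
  have b2 := mapB (MulAut.conj H.w) a2
  have b3 := mapB (MulAut.conj H.w) a3
  simp only [H.wr, H.rrr, H.ww] at a2 a3 b1 b2 b3
  intro i j l h1 h2 h3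
  fin_cases i <;> fin_cases j <;> fin_cases l <;>
    first | exact absurd rfl h1 | exact absurd rfl h2 | exact absurd rfl h3 | skip
  all_goals first | exact a1 | exact a2 | exact a3 | exact b1 | exact b2 | exact b3

theorem root_comm : ∀ i j k l : Fin 3, i ≠ j → k ≠ l → i ≠ l → j ≠ k →
    Commute (H.root i j) (H.root k l) := by
  have p1 := H.c1
  have p2 := mapC (MulAut.conj H.r) p1
  have p3 := mapC (MulAut.conj H.r) p2
  have q1 := H.c2
  have q2 := mapC (MulAut.conj H.r) q1
  have q3 := mapC (MulAut.conj H.r) q2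
  simp only [H.rrr] at p2 p3 q2 q3
  intro i j k l h1 h2 h3 h4
  fin_cases i <;> fin_cases j <;> fin_cases k <;> fin_cases l <;>
    first | exact absurd rfl h1 | exact absurd rfl h2 | exact absurd rfl h3 | exact absurd rfl h4 | skip
  all_goals first
    | exact Commute.refl _
    | exact p1 | exact p1.symm | exact p2 | exact p2.symm | exact p3 | exact p3.symm
    | exact q1 | exact q1.symm | exact q2 | exact q2.symm | exact q3 | exact q3.symm

theorem root_cube (i j : Fin 3) : H.root i j ^ 3 = 1 := by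
  fin_cases i <;> fin_cases j <;>
    first | exact one_pow 3 | exact H.x3 | (simp [root, conj_pow, H.x3])

theorem pow_val_add {g : G} (h : g ^ 3 = 1) (a b : ZMod 3) : g ^ (a + b).val = g ^ a.val * g ^ b.val := by
  rw [← pow_add, ZMod.val_add, ← pow_eq_pow_mod _ h]

theorem bracket_pow {a b c : G} (h : ⁅a, b⁆ = c) (ha : Commute a c) (hb : Commute b c) (m n : ℕ) :
    ⁅a ^ m, b ^ n⁆ = c ^ (m * n) := by
  have h1 : a * b * a⁻¹ = c * b := by rw [← h, commutatorElement_def]; group
  have h2 : ∀ n : ℕ, a * b ^ n * a⁻¹ = c ^ n * b ^ n := fun n => by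
    rw [← conj_pow, h1, hb.symm.mul_pow]
  have h3 : ∀ m : ℕ, a ^ m * b ^ n * (a ^ m)⁻¹ = c ^ (m * n) * b ^ n := by
    intro m
    induction m with
    | zero => simp
    | succ m ih =>
      have hc : a * c ^ (m * n) * a⁻¹ = c ^ (m * n) := by rw [(ha.pow_right _).eq]; group
      calc a ^ (m + 1) * b ^ n * (a ^ (m + 1))⁻¹ = a * (a ^ m * b ^ n * (a ^ m)⁻¹) * a⁻¹ := by
            rw [pow_succ']; group
        _ = (a * c ^ (m * n) * a⁻¹) * (a * b ^ n * a⁻¹) := by rw [ih]; group
        _ = c ^ ((m + 1) * n) * b ^ n := by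
            rw [hc, h2, ← mul_assoc, ← pow_add]; ring_nf
  rw [commutatorElement_def, h3]
  group

/-- The Steinberg data. -/
def data : SLPres.Data 3 (ZMod 3) G where
  y i j a := H.root i j ^ a.val
  add i j _ a b := (pow_val_add (H.root_cube i j) a b).symm
  comm i j k l h1 h2 h3 h4 a b := (H.root_comm i j k l h1 h2 h3 h4).pow_pow _ _
  brac i j l h1 h2 h3 a b := by
    rw [bracket_pow (H.root_brac i j l h1 h2 h3) (H.root_comm i j i l h1 h3 h3 h1.symm)
      (H.root_comm j l i l h2 h3 h2 h3.symm), ZMod.val_mul]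
    exact pow_eq_pow_mod _ (H.root_cube i l)

theorem center_sl_bot : Subgroup.center (SpecialLinearGroup (Fin 3) (ZMod 3)) = ⊥ := by
  haveI : Fact (Nat.Prime 3) := ⟨Nat.prime_three⟩
  apply Subgroup.eq_bot_of_card_eq
  rw [ClassicalSL.card_center_sl, Fintype.card_fin, Nat.card_zmod]
  norm_num

theorem card_psl33 : Nat.card (ProjectiveSpecialLinearGroup (Fin 3) (ZMod 3)) = 5616 := by
  haveI : Fact (Nat.Prime 3) := ⟨Nat.prime_three⟩
  have h := ClassicalSL.card_psl_mul (ι := Fin 3) (F := ZMod 3)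
  rw [ClassicalSL.card_gl_fin (Nat.card_zmod 3), Fintype.card_fin, Nat.card_zmod, Fin.prod_univ_three] at h
  generalize Nat.card (ProjectiveSpecialLinearGroup (Fin 3) (ZMod 3)) = N at h ⊢
  norm_num at h
  omega

include H in
/-- A group of order `5616` with such root elements is `PSL(3,3)`. -/
theorem nonempty_psl [Finite G] (hG : Nat.card G = 5616) :
    Nonempty (G ≃* ProjectiveSpecialLinearGroup (Fin 3) (ZMod 3)) := by
  haveI : Fact (Nat.Prime 3) := ⟨Nat.prime_three⟩
  obtain ⟨π, hπ⟩ := SLPres.exists_toSL 3 (ZMod 3)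
  have hb := SLPres.toSL_bijective (K := ZMod 3) 1 le_rfl π hπ
  obtain ⟨f, hf⟩ := SLPres.exists_hom_of_data H.data
  let q : SpecialLinearGroup (Fin 3) (ZMod 3) →* ProjectiveSpecialLinearGroup (Fin 3) (ZMod 3) :=
    QuotientGroup.mk' _
  have hq : Function.Bijective q := ⟨(injective_iff_map_eq_one q).2 fun a ha => by
    have := (QuotientGroup.eq_one_iff a).1 ha
    rwa [center_sl_bot, Subgroup.mem_bot] at this, QuotientGroup.mk'_surjective _⟩
  let ψ : ProjectiveSpecialLinearGroup (Fin 3) (ZMod 3) →* G :=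
    (f.comp (MulEquiv.ofBijective π hb).symm.toMonoidHom).comp (MulEquiv.ofBijective q hq).symm.toMonoidHom
  haveI := ClassicalSL.isSimpleGroup_psl (ι := Fin 3) (F := ZMod 3) (by simp)
  have hinj : Function.Injective ψ := by
    rcases IsSimpleGroup.eq_bot_or_eq_top_of_normal ψ.ker inferInstance with h | h
    · exact (MonoidHom.ker_eq_bot_iff ψ).1 h
    · exfalso
      have h01 : (0 : Fin 3) ≠ 1 := by decide
      have h2 : f (PresentedGroup.of (⟨(0, 1), h01⟩, (1 : ZMod 3))) = 1 := by
        have h3 : ψ (q (π (PresentedGroup.of (⟨(0, 1), h01⟩, (1 : ZMod 3))))) = 1 :=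
          MonoidHom.mem_ker.1 (h ▸ Subgroup.mem_top _)
        simp only [ψ, MonoidHom.comp_apply, MulEquiv.coe_toMonoidHom] at h3
        rwa [show ∀ a, (MulEquiv.ofBijective q hq).symm (q a) = a from fun a =>
          (MulEquiv.ofBijective q hq).symm_apply_apply a,
          show ∀ a, (MulEquiv.ofBijective π hb).symm (π a) = a from fun a =>
          (MulEquiv.ofBijective π hb).symm_apply_apply a] at h3
      rw [hf] at h2
      exact H.x1 (by simpa [data, root, ZMod.val_one] using h2)
  exact ⟨(MulEquiv.ofBijective ψ ((Nat.bijective_iff_injective_and_card ψ).2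
    ⟨hinj, by rw [card_psl33, hG]⟩)).symm⟩

end Hex

end Cfsg.Agent.GLTwoThree
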