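import Cfsg.Agent.Lib.GLTwoThree.Reduce

/-!
# A four-group in an involution centraliser `GL(2,3)` and the elements permuting it
-/

set_option autoImplicit false
set_option linter.style.haveILetI false
set_option linter.unusedSectionVars false

namespace Cfsg.Agent.GLTwoThree

universe u

variable {G : Type u} [Group G] [Finite G]

/-- A four-group, a symmetric group on it, and an element of order three. -/
structure Frame (t : G) where
  r : G
  u : G
  w : G
  x : G
  tt : t * t = 1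
  uu : u * u = 1
  ne_t : t ≠ 1
  ne_u : u ≠ 1
  ne_tu : t * u ≠ 1
  tu : t * u = u * t
  r3 : r ^ 3 = 1
  rt : MulAut.conj r t = u
  ru : MulAut.conj r u = t * u
  ww : w * w = 1
  rw2 : r * w * (r * w) = 1
  wt : MulAut.conj w t = t
  wu : MulAut.conj w u = t * u
  x3 : x ^ 3 = 1
  x1 : x ≠ 1
  tx : Commute t x
  ux : MulAut.conj u x = x⁻¹
  xy : t = (x * MulAut.conj w x) ^ 2
  card_cent : Nat.card (Subgroup.centralizer ({t} : Set G)) = 48
  two : ∀ a, Commute t a → Commute x a → a ^ 16 = 1 → a = 1 ∨ a = t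
  four : ∀ a, Commute t a → a ^ 27 = 1 → a ≠ 1 → (a * MulAut.conj u a) ^ 27 = 1 →
    a = x ∨ a = x⁻¹ ∨ a = MulAut.conj w x ∨ a = (MulAut.conj w x)⁻¹

theorem cent_u_check : ∀ v ∈ U, mul v (1, 0, 0, 2) = mul (1, 0, 0, 2) v →
    v = one ∨ v = negOne ∨ v = (1, 0, 0, 2) ∨ v = mul negOne (1, 0, 0, 2) := by decide +kernel

theorem refl_check : ∀ v ∈ U, mul v v = one → v ≠ one → v ≠ negOne →
    ∃ g ∈ U, cj g v = (1, 0, 0, 2) := by decide +kernel

theorem two_check : ∀ v ∈ U, mul (1, 1, 0, 1) v = mul v (1, 1, 0, 1) → pw v 16 = one →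
    v = one ∨ v = negOne := by decide +kernel

theorem four_check : ∀ v ∈ U, v ≠ one → pw v 3 = one →
    pw (mul v (cj (1, 0, 0, 2) v)) 3 = one →
    v = (1, 1, 0, 1) ∨ v = (1, 2, 0, 1) ∨ v = (1, 0, 1, 1) ∨ v = (1, 0, 2, 1) := by decide +kernel

theorem elts_check : ((1, 1, 0, 1) : V) ∈ U ∧ ((0, 1, 1, 0) : V) ∈ U ∧ ((0, 2, 2, 0) : V) ∈ U ∧
    mul negOne (0, 1, 1, 0) = (0, 2, 2, 0) ∧ pw (1, 1, 0, 1) 3 = one ∧ ((1, 1, 0, 1) : V) ≠ one ∧
    mul negOne (1, 1, 0, 1) = mul (1, 1, 0, 1) negOne ∧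
    cj (1, 0, 0, 2) (1, 1, 0, 1) = inv (1, 1, 0, 1) ∧ inv (1, 1, 0, 1) = (1, 2, 0, 1) ∧
    inv (1, 0, 1, 1) = (1, 0, 2, 1) ∧ ((1, 0, 1, 1) : V) ∈ U ∧
    pw (mul (1, 1, 0, 1) (1, 0, 1, 1)) 2 = negOne ∧
    cj (0, 1, 1, 0) (1, 1, 0, 1) = (1, 0, 1, 1) ∧ cj (0, 2, 2, 0) (1, 1, 0, 1) = (1, 0, 1, 1) ∧
    cj (0, 1, 1, 0) (1, 0, 0, 2) = mul negOne (1, 0, 0, 2) ∧
    cj (0, 2, 2, 0) (1, 0, 0, 2) = mul negOne (1, 0, 0, 2) ∧
    mul (0, 1, 1, 0) (0, 1, 1, 0) = one ∧ mul (0, 2, 2, 0) (0, 2, 2, 0) = one := by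
  refine ⟨?_, ?_, ?_, ?_, ?_, ?_, ?_, ?_, ?_, ?_, ?_, ?_, ?_, ?_, ?_, ?_, ?_, ?_⟩ <;> decide +kernel

theorem commute_of_conj_eq {a b : G} (h : MulAut.conj a b = b) : Commute a b :=
  mul_inv_eq_iff_eq_mul.mp h

theorem conj_eq_of_commute {a b : G} (h : Commute a b) : MulAut.conj a b = b :=
  mul_inv_eq_iff_eq_mul.mpr h

theorem exists_frame {t : G} (ht : orderOf t = 2)
    (e : Subgroup.centralizer ({t} : Set G) ≃* Matrix.GeneralLinearGroup (Fin 2) (ZMod 3))
    (hcls : ∀ u : G, orderOf u = 2 → IsConj t u) : Nonempty (Frame t) := by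
  obtain ⟨huU, hu2, hu1, hvU, hv2, hv1, hnU⟩ := u0_check
  obtain ⟨hxU, hwU, hw'U, hnw, hx3, hx1, hxn, hux, hxi, hyi, hyU, hxy, hwx, hw'x, hwu, hw'u, hww, hw'w⟩ :=
    elts_check
  set u := el e (1, 0, 0, 2) with hu
  set x := el e (1, 1, 0, 1) with hx
  have tt : t * t = 1 := by rw [← pow_two, ← ht, pow_orderOf_eq_one]
  have tne : t ≠ 1 := fun h => by rw [h, orderOf_one] at ht; omega
  have hcomm : ∀ v, Commute t (el e v) := fun v =>
    (Subgroup.mem_centralizer_singleton_iff.mp (el_mem e v)).symm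
  have hmemC : ∀ {a : G}, Commute t a → a ∈ Subgroup.centralizer ({t} : Set G) := fun h =>
    Subgroup.mem_centralizer_singleton_iff.mpr h.eq.symm
  have hcj : ∀ {g v : V}, g ∈ U → mul g g = one → v ∈ U → MulAut.conj (el e g) (el e v) = el e (cj g v) := by
    intro g v hg hsq hv
    have : (el e g)⁻¹ = el e g := inv_eq_of_mul_eq_one_right (by rw [el_mul e hg hg, hsq, el_one])
    rw [MulAut.conj_apply, ← el_cj e hg hv, this]
  have uu : u * u = 1 := by rw [hu, el_mul e huU huU, hu2, el_one]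
  have htu : t * u = el e (mul negOne (1, 0, 0, 2)) := by
    rw [hu, ← el_mul e hnU huU, el_negOne ht e]
  have unet : u ≠ t := fun h => absurd (el_injOn e huU hnU (h.trans (el_negOne ht e).symm)) (by decide +kernel)
  have cfour : ∀ a : G, Commute t a → Commute u a → a = 1 ∨ a = t ∨ a = u ∨ a = t * u := by
    intro a h1 h2
    obtain ⟨v, hv, rfl⟩ := exists_el e (hmemC h1)
    have h3 : mul v (1, 0, 0, 2) = mul (1, 0, 0, 2) v :=
      el_injOn e (mul_mem' v hv _ huU) (mul_mem' _ huU v hv)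
        (by rw [← el_mul e hv huU, ← el_mul e huU hv]; exact h2.eq.symm)
    rcases cent_u_check v hv h3 with h | h | h | h <;> subst h
    · exact Or.inl (el_one e)
    · exact Or.inr (Or.inl (el_negOne ht e))
    · exact Or.inr (Or.inr (Or.inl rfl))
    · exact Or.inr (Or.inr (Or.inr htu.symm))
  -- an element moving `t` to `u` and back
  obtain ⟨g, hg⟩ := isConj_iff.mp (hcls u (el_invol e huU hu2 hu1))
  have hs : Commute t (g⁻¹ * t * g) := by
    have h1 : Commute (g⁻¹ * u * g) (g⁻¹ * t * g) := by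
      have := ((hcomm (1, 0, 0, 2)).symm).map (MulAut.conj g⁻¹)
      simpa [MulAut.conj_apply] using this
    rwa [← hg, show g⁻¹ * (g * t * g⁻¹) * g = t by group] at h1
  obtain ⟨v, hv, hve⟩ := exists_el e (hmemC hs)
  have hv2 : mul v v = one := el_eq_one e (mul_mem' v hv v hv) (by
    rw [← el_mul e hv hv, hve, show g⁻¹ * t * g * (g⁻¹ * t * g) = g⁻¹ * (t * t) * g by group, tt]
    group)
  have hvne1 : v ≠ one := fun h => tne (by
    rw [h, el_one] at hve
    calc t = g * (g⁻¹ * t * g) * g⁻¹ := by group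
      _ = 1 := by rw [← hve]; group)
  have hvnet : v ≠ negOne := fun h => unet (by
    rw [h, el_negOne ht e] at hve
    calc u = g * t * g⁻¹ := hg.symm
      _ = g * (g⁻¹ * t * g) * g⁻¹ := by rw [← hve]
      _ = t := by group)
  obtain ⟨c, hc, hcv⟩ := refl_check v hv hv2 hvne1 hvnet
  have hct : MulAut.conj (el e c) t = t := conj_eq_of_commute (hcomm c).symm
  set h := g * el e c with hh
  have hht : MulAut.conj h t = u := by rw [hh, map_mul, MulAut.mul_apply, hct]; exact hg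
  have hhu : MulAut.conj h u = t := by
    have : u = (el e c)⁻¹ * (g⁻¹ * t * g) * el e c := by rw [hu, ← hcv, ← el_cj e hc hv, hve]
    rw [hh, MulAut.conj_apply, this]
    group
  set r := h * el e (0, 1, 1, 0) with hr
  have hwt : ∀ a, MulAut.conj (el e a) t = t := fun a => conj_eq_of_commute (hcomm a).symm
  have hwu1 : MulAut.conj (el e (0, 1, 1, 0)) u = t * u := by rw [hu, hcj hwU hww huU, hwu, ← htu]
  have hwu2 : MulAut.conj (el e (0, 2, 2, 0)) u = t * u := by rw [hu, hcj hw'U hw'w huU, hw'u, ← htu]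
  have rt : MulAut.conj r t = u := by rw [hr, map_mul, MulAut.mul_apply, hwt, hht]
  have ru : MulAut.conj r u = t * u := by
    rw [hr, map_mul, MulAut.mul_apply, hwu1, map_mul, hht, hhu]
    exact (hcomm (1, 0, 0, 2)).eq.symm
  have rtu : MulAut.conj r (t * u) = t := by
    rw [map_mul, rt, ru, ← mul_assoc, ← (hcomm (1, 0, 0, 2)).eq, mul_assoc, uu, mul_one]
  have rfix : ∀ a : G, (a = 1 ∨ a = t ∨ a = u ∨ a = t * u) → Commute r a → a = 1 := by
    intro a ha hra
    have h1 := conj_eq_of_commute hra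
    rcases ha with rfl | rfl | rfl | rfl
    · rfl
    · rw [rt] at h1; exact absurd h1 unet
    · rw [ru] at h1
      exact absurd (mul_eq_right.mp h1) tne
    · rw [rtu] at h1
      exact absurd (mul_eq_left.mp h1.symm) fun h => hu1 (el_eq_one e huU h)
  have r3 : r ^ 3 = 1 := by
    refine rfix _ (cfour _ ?_ ?_) (Commute.self_pow r 3) <;>
      refine (commute_of_conj_eq ?_).symm <;>
      rw [pow_succ, pow_two, map_mul, map_mul, MulAut.mul_apply, MulAut.mul_apply]
    · rw [rt, ru, rtu]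
    · rw [ru, rtu, rt]
  -- the swap
  have hwB : ∀ w : G, MulAut.conj w t = t → MulAut.conj w u = t * u → w * w = 1 →
      r * w * (r * w) = 1 ∨ r * w * (r * w) = t * u := by
    intro w wt wu _
    have wtu : MulAut.conj w (t * u) = u := by rw [map_mul, wt, wu, ← mul_assoc, tt, one_mul]
    have hv := cfour (r * w * (r * w))
      (commute_of_conj_eq (by
        rw [map_mul, map_mul, MulAut.mul_apply, MulAut.mul_apply, MulAut.mul_apply, wt, rt, wu, rtu])).symm
      (commute_of_conj_eq (by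
        rw [map_mul, map_mul, MulAut.mul_apply, MulAut.mul_apply, MulAut.mul_apply, wu, rtu, wt, rt])).symm
    have h1 : MulAut.conj (r * w) (r * w * (r * w)) = r * w * (r * w) := by
      simp only [MulAut.conj_apply]; group
    rcases hv with hv | hv | hv | hv
    · exact Or.inl hv
    · exfalso; rw [hv, map_mul, MulAut.mul_apply, wt, rt] at h1; exact unet h1
    · exfalso; rw [hv, map_mul, MulAut.mul_apply, wu, rtu] at h1; exact unet h1.symm
    · exact Or.inr hv
  obtain ⟨wv, hwv, hwv2, hwvu, hwvx, hrw⟩ : ∃ wv ∈ U, mul wv wv = one ∧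
      MulAut.conj (el e wv) u = t * u ∧ cj wv (1, 1, 0, 1) = (1, 0, 1, 1) ∧
      r * el e wv * (r * el e wv) = 1 := by
    rcases hwB _ (hwt _) hwu1 (by rw [el_mul e hwU hwU, hww, el_one]) with h1 | h1
    · exact ⟨_, hwU, hww, hwu1, hwx, h1⟩
    · refine ⟨_, hw'U, hw'w, hwu2, hw'x, ?_⟩
      have h2 : el e (0, 2, 2, 0) = t * el e (0, 1, 1, 0) := by
        rw [show t * el e (0, 1, 1, 0) = el e negOne * el e (0, 1, 1, 0) by rw [el_negOne ht e],
          el_mul e hnU hwU, hnw]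
      rw [h2]
      set w := el e (0, 1, 1, 0)
      have a1 : r * t = u * r := by rw [← rt, MulAut.conj_apply]; group
      have a2 : t * (r * w) = r * w * u := by
        have : MulAut.conj (r * w) u = t := by rw [map_mul, MulAut.mul_apply, hwu1, rtu]
        rw [← this, MulAut.conj_apply]; group
      calc r * (t * w) * (r * (t * w)) = r * t * w * (r * t * w) := by group
        _ = u * r * w * (u * r * w) := by rw [a1]
        _ = u * (r * w * u * (r * w)) := by group
        _ = u * (t * (r * w) * (r * w)) := by rw [← a2]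
        _ = u * t * (r * w * (r * w)) := by group
        _ = 1 := by
          rw [h1, mul_assoc, ← mul_assoc t, tt, one_mul, uu]
  have hy : MulAut.conj (el e wv) x = el e (1, 0, 1, 1) := by rw [hx, hcj hwv hwv2 hxU, hwvx]
  refine ⟨⟨r, u, el e wv, x, tt, uu, tne, fun h => hu1 (el_eq_one e huU h), ?_,
    (hcomm _).eq, r3, rt, ru, by rw [el_mul e hwv hwv, hwv2, el_one], hrw, hwt _, hwvu,
    by rw [hx, el_pow e hxU, hx3, el_one], fun h => hx1 (el_eq_one e hxU h), hcomm _, ?_, ?_,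
    card_X e, ?_, ?_⟩⟩
  · rw [htu]
    exact fun h => hv1 (el_eq_one e hvU h)
  · rw [hx, el_inv e hxU, ← hux, hu, hcj huU hu2 hxU]
  · rw [hy, hx, el_mul e hxU hyU, el_pow e (mul_mem' _ hxU _ hyU), hxy, el_negOne ht e]
  · intro a h1 h2 h16
    obtain ⟨v, hv, rfl⟩ := exists_el e (hmemC h1)
    rcases two_check v hv
      (el_injOn e (mul_mem' _ hxU v hv) (mul_mem' v hv _ hxU)
        (by rw [← el_mul e hxU hv, ← el_mul e hv hxU]; exact h2.eq))
      (el_eq_one e (pw_mem v hv 16) (by rw [← el_pow e hv, h16])) with h | h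
    · exact Or.inl (by rw [h, el_one])
    · exact Or.inr (by rw [h, el_negOne ht e])
  · intro a h1 h27 hne hp
    obtain ⟨v, hv, rfl⟩ := exists_el e (hmemC h1)
    rw [hu, hcj huU hu2 hv] at hp
    have hcU : cj (1, 0, 0, 2) v ∈ U := mul_mem' _ (inv_mul' _ huU).2 _ (mul_mem' v hv _ huU)
    rw [el_mul e hv hcU] at hp
    have hvn : v ≠ one := fun h => hne (by rw [h, el_one])
    have h3 := el_eq_one e (pw_mem v hv 3)
      (by rw [← el_pow e hv]; exact pow_three e (el_mem e v) (n := 27) (by norm_num) h27)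
    have hpU := mul_mem' v hv _ hcU
    have h4 := el_eq_one e (pw_mem _ hpU 3)
      (by rw [← el_pow e hpU]; exact pow_three e (el_mem e _) (n := 27) (by norm_num) hp)
    rw [hy, hx, el_inv e hxU, el_inv e hyU, hxi, hyi]
    rcases four_check v hv hvn h3 h4 with h | h | h | h <;> subst h <;> simp

end Cfsg.Agent.GLTwoThree
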