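import Mathlib.Data.ZMod.Basic
import Mathlib.Data.Fintype.Prod
import Mathlib.Algebra.BigOperators.Fin
import Mathlib.LinearAlgebra.Matrix.GeneralLinearGroup.Defs

/-!
# A computable model of `GL(2,3)` and the checks on it
-/

set_option autoImplicit false

namespace Cfsg.Agent.GLTwoThree

/-- A matrix, by entries. -/
abbrev V : Type := ZMod 3 × ZMod 3 × ZMod 3 × ZMod 3

def mul (x y : V) : V :=
  (x.1 * y.1 + x.2.1 * y.2.2.1, x.1 * y.2.1 + x.2.1 * y.2.2.2,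
   x.2.2.1 * y.1 + x.2.2.2 * y.2.2.1, x.2.2.1 * y.2.1 + x.2.2.2 * y.2.2.2)

def one : V := (1, 0, 0, 1)

def det (x : V) : ZMod 3 := x.1 * x.2.2.2 - x.2.1 * x.2.2.1

def inv (x : V) : V :=
  (det x * x.2.2.2, -(det x * x.2.1), -(det x * x.2.2.1), det x * x.1)

/-- The invertible ones. -/
def U : Finset V :=
  ⟨([(0, 1, 1, 0), (0, 1, 1, 1), (0, 1, 1, 2), (0, 1, 2, 0), (0, 1, 2, 1), (0, 1, 2, 2),
    (0, 2, 1, 0), (0, 2, 1, 1), (0, 2, 1, 2), (0, 2, 2, 0), (0, 2, 2, 1), (0, 2, 2, 2),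
    (1, 0, 0, 1), (1, 0, 0, 2), (1, 0, 1, 1), (1, 0, 1, 2), (1, 0, 2, 1), (1, 0, 2, 2),
    (1, 1, 0, 1), (1, 1, 0, 2), (1, 1, 1, 0), (1, 1, 1, 2), (1, 1, 2, 0), (1, 1, 2, 1),
    (1, 2, 0, 1), (1, 2, 0, 2), (1, 2, 1, 0), (1, 2, 1, 1), (1, 2, 2, 0), (1, 2, 2, 2),
    (2, 0, 0, 1), (2, 0, 0, 2), (2, 0, 1, 1), (2, 0, 1, 2), (2, 0, 2, 1), (2, 0, 2, 2),
    (2, 1, 0, 1), (2, 1, 0, 2), (2, 1, 1, 0), (2, 1, 1, 1), (2, 1, 2, 0), (2, 1, 2, 2),
    (2, 2, 0, 1), (2, 2, 0, 2), (2, 2, 1, 0), (2, 2, 1, 2), (2, 2, 2, 0), (2, 2, 2, 1)] : List V), by decide +kernel⟩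

theorem mem_U : ∀ x : V, x ∈ U ↔ det x ≠ 0 := by decide +kernel

/-- Conjugation `x⁻¹ v x`. -/
def cj (x v : V) : V := mul (inv x) (mul v x)

def pw (x : V) : ℕ → V
  | 0 => one
  | k + 1 => mul x (pw x k)

/-- The element `t`. -/
def negOne : V := (2, 0, 0, 2)

/-- The class of an element. -/
def cls (x : V) : Fin 8 :=
  if det x = 1 then
    if x = one then 0 else if x = negOne then 1 else
    if x.1 + x.2.2.2 = 0 then 2 else if x.1 + x.2.2.2 = 2 then 3 else 4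
  else if x.1 + x.2.2.2 = 1 then 5 else if x.1 + x.2.2.2 = 2 then 6 else 7

/-- Representatives of the classes. -/
def rep : Fin 8 → V
  | 0 => (1, 0, 0, 1)
  | 1 => (2, 0, 0, 2)
  | 2 => (0, 2, 1, 0)
  | 3 => (1, 1, 0, 1)
  | 4 => (2, 2, 0, 2)
  | 5 => (0, 1, 1, 1)
  | 6 => (0, 1, 1, 2)
  | 7 => (1, 0, 0, 2)

/-- An element of order eight. -/
def w : V := (0, 1, 1, 1)

/-- The discrete logarithm to the base `w`. -/
def lg (x : V) : Option (Fin 8) :=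
  if x = (1, 0, 0, 1) then some 0 else
  if x = (0, 1, 1, 1) then some 1 else
  if x = (1, 1, 1, 2) then some 2 else
  if x = (1, 2, 2, 0)then some 3 else
  if x = (2, 0, 0, 2) then some 4 else
  if x = (0, 2, 2, 2) then some 5 else
  if x = (2, 2, 2, 1) then some 6 else
  if x = (2, 1, 1, 0) then some 7 else
  none

/-- The Sylow two-subgroup normalising `⟨w⟩`. -/
def InP (x : V) : Prop := cj x w = w ∨ cj x w = (1, 2, 2, 0)

instance (x : V) : Decidable (InP x) := inferInstanceAs (Decidable (_ ∨ _))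

/-- The determinant as an exponent of the eighth root of unity. -/
def sgn (x : V) : Fin 8 := if det x = 1 then 0 else 4

/-- Eight partial characters of order dividing eight. -/
def idx : Fin 8 → V → Option (Fin 8)
  | 0 => fun _ => some 0
  | 1 => fun x => some (sgn x)
  | 2 => fun x => if InP x then some 0 else none
  | 3 => fun x => if x.2.2.1 = 0 then some 0 else none
  | 4 => fun x => if x.2.2.1 = 0 then some (sgn x) else none
  | 5 => fun x => if x.1 = 1 ∧ x.2.2.1 = 0 then some 0 else none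
  | 6 => fun x => lg x
  | 7 => fun x => (lg x).map fun i => -i

/-- The orders of their domains. -/
def size : Fin 8 → ℕ
  | 0 => 48
  | 1 => 48
  | 2 => 16
  | 3 => 12
  | 4 => 12
  | 5 => 6
  | 6 => 8
  | 7 => 8

/-- The coefficients of the five generalised characters. -/
def co : Fin 5 → Fin 8 → ℤ
  | 0 => ![1, 0, 1, -1, 0, 0, 0, 0]
  | 1 => ![1, -1, 0, 1, 1, -1, 0, 0]
  | 2 => ![0, 0, 0, 0, 0, 0, 1, -1]
  | 3 => ![-1, 0, 1, -1, 0, 1, -1, 0]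
  | 4 => ![-1, 1, 0, 2, 0, -1, 0, 0]

/-- The values, `(a, b)` standing for `a + b √-2`. -/
def val : Fin 5 → Fin 8 → ℤ × ℤ
  | 0 => ![(0, 0), (0, 0), (4, 0), (0, 0), (0, 0), (2, 0), (2, 0), (0, 0)]
  | 1 => ![(0, 0), (8, 0), (0, 0), (0, 0), (2, 0), (2, 0), (2, 0), (0, 0)]
  | 2 => ![(0, 0), (0, 0), (0, 0), (0, 0), (0, 0), (0, 2), (0, -2), (0, 0)]
  | 3 => ![(0, 0), (4, 0), (2, 0), (0, 0), (-2, 0), (0, -1), (0, 1), (0, 0)]
  | 4 => ![(0, 0), (8, 0), (0, 0), (0, 0), (2, 0), (-2, 0), (-2, 0), (0, 0)]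

/-- The number of conjugators sending `v` to an element of logarithm `i`. -/
def cnt (j : Fin 8) (v : V) (i : Fin 8) : ℕ :=
  (U.filter fun x => idx j (cj x v) = some i).card

/-- The table of inner products, times `48`. -/
def gram : Fin 5 → Fin 5 → ℤ
  | 0 => ![144, 48, 0, 48, -48]
  | 1 => ![48, 144, 0, 0, 48]
  | 2 => ![0, 0, 96, -48, 0]
  | 3 => ![48, 0, -48, 96, 0]
  | 4 => ![-48, 48, 0, 0, 144]

/-- The combination giving the value at `t`. -/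
def comb : Fin 5 → ℤ := ![-2, 3, 2, 4, 1]

/-- Pairs of involutions with a given product. -/
def nloc (v : V) : ℕ :=
  (U.filter fun x => x ≠ one ∧ mul x x = one ∧ mul x v ≠ one ∧ mul (mul x v) (mul x v) = one).card

/-- The classes carrying `D`. -/
def inD (x : V) : Prop := cls x = 1 ∨ cls x = 2 ∨ cls x = 4 ∨ cls x = 5 ∨ cls x = 6

instance (x : V) : Decidable (inD x) := inferInstanceAs (Decidable (_ ∨ _))

set_option maxRecDepth 100000

theorem U_card : U.card = 48 := by decide +kernel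

theorem one_mem : one ∈ U := by decide +kernel

theorem inv_mul' : ∀ x ∈ U, mul (inv x) x = one ∧ inv x ∈ U := by decide +kernel

theorem mul_mem' : ∀ x ∈ U, ∀ y ∈ U, mul x y ∈ U := by decide +kernel

theorem rep_spec : ∀ k, rep k ∈ U ∧ cls (rep k) = k := by decide +kernel

theorem exists_conj : ∀ v ∈ U, ∃ x ∈ U, cj x v = rep (cls v) := by decide +kernel

theorem cls_conj : ∀ v ∈ U, ∀ x ∈ U, cls (cj x v) = cls v := by decide +kernel

theorem idx_card : ∀ j, (U.filter fun x => (idx j x).isSome).card = size j := by decide +kernel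

theorem idx_mul_aux : ∀ j, ∀ x ∈ U, ∀ y ∈ U, (idx j x).isSome → (idx j y).isSome →
    idx j (mul x y) = (idx j x).bind fun a => (idx j y).map fun b => a + b := by decide +kernel

theorem idx_mul (j : Fin 8) (x : V) (hx : x ∈ U) (y : V) (hy : y ∈ U) (a b : Fin 8)
    (ha : idx j x = some a) (hb : idx j y = some b) : idx j (mul x y) = some (a + b) := by
  rw [idx_mul_aux j x hx y hy (by simp [ha]) (by simp [hb]), ha, hb]
  rfl

theorem idx_one : ∀ j, idx j one = some 0 := by decide +kernel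

theorem idx_inv : ∀ j, ∀ x ∈ U, (idx j x).isSome → (idx j (inv x)).isSome := by decide +kernel

/-- The table of the counts at the representatives. -/
def tbl : Fin 8 → Fin 8 → Fin 8 → ℕ
  | 0 => ![![48, 0, 0, 0, 0, 0, 0, 0],
      ![48, 0, 0, 0, 0, 0, 0, 0],
      ![48, 0, 0, 0, 0, 0, 0, 0],
      ![48, 0, 0, 0, 0, 0, 0, 0],
      ![48, 0, 0, 0, 0, 0, 0, 0],
      ![48, 0, 0, 0, 0, 0, 0, 0],
      ![48, 0, 0, 0, 0, 0, 0, 0],
      ![48, 0, 0, 0, 0, 0, 0, 0]]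
  | 1 => ![![48, 0, 0, 0, 0, 0, 0, 0],
      ![48, 0, 0, 0, 0, 0, 0, 0],
      ![48, 0, 0, 0, 0, 0, 0, 0],
      ![48, 0, 0, 0, 0, 0, 0, 0],
      ![48, 0, 0, 0, 0, 0, 0, 0],
      ![0, 0, 0, 0, 48, 0, 0, 0],
      ![0, 0, 0, 0, 48, 0, 0, 0],
      ![0, 0, 0, 0, 48, 0, 0, 0]]
  | 2 => ![![48, 0, 0, 0, 0, 0, 0, 0],
      ![48, 0, 0, 0, 0, 0, 0, 0],
      ![48, 0, 0, 0, 0, 0, 0, 0],
      ![0, 0, 0, 0, 0, 0, 0, 0],
      ![0, 0, 0, 0, 0, 0, 0, 0],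
      ![16, 0, 0, 0, 0, 0, 0, 0],
      ![16, 0, 0, 0, 0, 0, 0, 0],
      ![16, 0, 0, 0, 0, 0, 0, 0]]
  | 3 => ![![48, 0, 0, 0, 0, 0, 0, 0],
      ![48, 0, 0, 0, 0, 0, 0, 0],
      ![0, 0, 0, 0, 0, 0, 0, 0],
      ![12, 0, 0, 0, 0, 0, 0, 0],
      ![12, 0, 0, 0, 0, 0, 0, 0],
      ![0, 0, 0, 0, 0, 0, 0, 0],
      ![0, 0, 0, 0, 0, 0, 0, 0],
      ![24, 0, 0, 0, 0, 0, 0, 0]]
  | 4 => ![![48, 0, 0, 0, 0, 0, 0, 0],
      ![48, 0, 0, 0, 0, 0, 0, 0],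
      ![0, 0, 0, 0, 0, 0, 0, 0],
      ![12, 0, 0, 0, 0, 0, 0, 0],
      ![12, 0, 0, 0, 0, 0, 0, 0],
      ![0, 0, 0, 0, 0, 0, 0, 0],
      ![0, 0, 0, 0, 0, 0, 0, 0],
      ![0, 0, 0, 0, 24, 0, 0, 0]]
  | 5 => ![![48, 0, 0, 0, 0, 0, 0, 0],
      ![0, 0, 0, 0, 0, 0, 0, 0],
      ![0, 0, 0, 0, 0, 0, 0, 0],
      ![12, 0, 0, 0, 0, 0, 0, 0],
      ![0, 0, 0, 0, 0, 0, 0, 0],
      ![0, 0, 0, 0, 0, 0, 0, 0],
      ![0, 0, 0, 0, 0, 0, 0, 0],
      ![12, 0, 0, 0, 0, 0, 0, 0]]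
  | 6 => ![![48, 0, 0, 0, 0, 0, 0, 0],
      ![0, 0, 0, 0, 48, 0, 0, 0],
      ![0, 0, 8, 0, 0, 0, 8, 0],
      ![0, 0, 0, 0, 0, 0, 0, 0],
      ![0, 0, 0, 0, 0, 0, 0, 0],
      ![0, 8, 0, 8, 0, 0, 0, 0],
      ![0, 0, 0, 0, 0, 8, 0, 8],
      ![0, 0, 0, 0, 0, 0, 0, 0]]
  | 7 => ![![48, 0, 0, 0, 0, 0, 0, 0],
      ![0, 0, 0, 0, 48, 0, 0, 0],
      ![0, 0, 8, 0, 0, 0, 8, 0],
      ![0, 0, 0, 0, 0, 0, 0, 0],
      ![0, 0, 0, 0, 0, 0, 0, 0],
      ![0, 0, 0, 0, 0, 8, 0, 8],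
      ![0, 8, 0, 8, 0, 0, 0, 0],
      ![0, 0, 0, 0, 0, 0, 0, 0]]

theorem cnt_eq : ∀ j c i, cnt j (rep c) i = tbl j c i := by decide +kernel

/-- The combination of counts on the representative of a class. -/
def tot (k : Fin 5) (c i : Fin 8) : ℤ :=
  ∑ j, co k j * ((48 / size j : ℕ) : ℤ) * (tbl j c i : ℤ)

/-- The identity between values and induced functions, coefficient by coefficient. -/
theorem val_check : ∀ k c, tot k c 0 - tot k c 4 = 48 * (val k c).1 ∧ tot k c 2 = tot k c 6 ∧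
    tot k c 1 - tot k c 5 = 48 * (val k c).2 ∧ tot k c 3 - tot k c 7 = 48 * (val k c).2 := by
  decide +kernel

theorem gram_check : ∀ k l,
    ∑ x ∈ U, ((val k (cls x)).1 * (val l (cls x)).1 + 2 * (val k (cls x)).2 * (val l (cls x)).2) =
      gram k l ∧
    ∑ x ∈ U, ((val k (cls x)).2 * (val l (cls x)).1 - (val k (cls x)).1 * (val l (cls x)).2) = 0 := by
  decide +kernel

theorem sum_check : ∀ k, ∑ x ∈ U, (val k (cls x)).1 = ![48, 48, 0, 0, 0] k ∧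
    ∑ x ∈ U, (val k (cls x)).2 = 0 := by decide +kernel

theorem comb_check : ∀ c, (∑ k, comb k * (val k c).1 = if c = 1 then 48 else 0) ∧
    ∑ k, comb k * (val k c).2 = 0 := by decide +kernel

theorem count_check : (∑ x ∈ U, (val 0 (cls x)).1 * (nloc x : ℤ) = 96 ∧
    ∑ x ∈ U, (val 0 (cls x)).2 * (nloc x : ℤ) = 0) ∧
    ∑ x ∈ U, (val 1 (cls x)).1 * (nloc x : ℤ) = 192 ∧
    ∑ x ∈ U, (val 1 (cls x)).2 * (nloc x : ℤ) = 0 := by decide +kernel

theorem val_off : ∀ k, ∀ v ∈ U, inD v ∨ val k (cls v) = (0, 0) := by decide +kernel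

theorem inD_pow : ∀ v ∈ U, inD v → pw v 1 = negOne ∨ pw v 2 = negOne ∨ pw v 3 = negOne ∨
    pw v 4 = negOne := by decide +kernel

theorem inD_invol : ∀ v ∈ U, inD v → ∀ k ∈ [1, 2, 3, 4], mul (pw v k) (pw v k) = one →
    pw v k ≠ one → pw v k = negOne := by decide +kernel

theorem invol_dets : ∀ v ∈ U, mul v v = one → det v = 1 → v = one ∨ v = negOne := by decide +kernel

theorem InP_spec : (U.filter InP).card = 16 ∧ (U.filter fun x => InP x ∧ det x = 1).card = 8 := by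
  decide +kernel

theorem InP_mul : ∀ x ∈ U, ∀ y ∈ U, InP x → InP y → InP (mul x y) := by decide +kernel

theorem InP_center : ∀ z ∈ U, InP z → z = one ∨ z = negOne ∨
    ∃ x ∈ U, InP x ∧ mul z x ≠ mul x z := by decide +kernel

theorem negOne_central : ∀ x ∈ U, mul negOne x = mul x negOne := by decide +kernel

theorem center_two : ∀ z ∈ U, z = one ∨ z = negOne ∨ ∃ x ∈ U, mul z x ≠ mul x z := by decide +kernel

/-- The entries of an invertible matrix. -/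
def ofGL (g : Matrix.GeneralLinearGroup (Fin 2) (ZMod 3)) : V :=
  let A : Matrix (Fin 2) (Fin 2) (ZMod 3) := g
  (A 0 0, A 0 1, A 1 0, A 1 1)

theorem ofGL_mul (g h : Matrix.GeneralLinearGroup (Fin 2) (ZMod 3)) :
    ofGL (g * h) = mul (ofGL g) (ofGL h) := by
  simp [ofGL, mul, Matrix.mul_apply, Fin.sum_univ_two]

theorem ofGL_one : ofGL 1 = one := by
  simp [ofGL, one]

theorem ofGL_injective : Function.Injective ofGL := by
  intro g h e
  simp only [ofGL, Prod.mk.injEq] at e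
  obtain ⟨h1, h2, h3, h4⟩ := e
  refine Units.ext (Matrix.ext fun i j => ?_)
  fin_cases i <;> fin_cases j <;> assumption

theorem det_ofGL (g : Matrix.GeneralLinearGroup (Fin 2) (ZMod 3)) : det (ofGL g) ≠ 0 := by
  have h : IsUnit ((g : Matrix (Fin 2) (Fin 2) (ZMod 3)).det) :=
    (Matrix.isUnit_iff_isUnit_det _).mp g.isUnit
  have h' := h.ne_zero
  rw [Matrix.det_fin_two] at h'
  exact h'

theorem ofGL_mem (g : Matrix.GeneralLinearGroup (Fin 2) (ZMod 3)) : ofGL g ∈ U :=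
  (mem_U _).mpr (det_ofGL g)

theorem ofGL_surj {v : V} (hv : v ∈ U) :
    ∃ g : Matrix.GeneralLinearGroup (Fin 2) (ZMod 3), ofGL g = v := by
  have hd : IsUnit (!![v.1, v.2.1; v.2.2.1, v.2.2.2]).det := by
    rw [Matrix.det_fin_two_of]
    have : ∀ z : ZMod 3, z ≠ 0 → z * z = 1 := by decide
    exact IsUnit.of_mul_eq_one _ (this _ ((mem_U v).mp hv))
  exact ⟨((Matrix.isUnit_iff_isUnit_det _).mpr hd).unit, by simp [ofGL]⟩

end Cfsg.Agent.GLTwoThree
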