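import Cfsg.Agent.Lib.GLTwoThree.Frame
import Cfsg.Agent.Lib.GLTwoThree.Hex
import Mathlib.GroupTheory.SpecificGroups.Cyclic
import Mathlib.GroupTheory.PGroup

/-!
# A group of order `5616` with an involution centraliser `GL(2,3)` is `PSL(3,3)`
-/

set_option autoImplicit false
set_option linter.style.haveILetI false
set_option linter.unusedSectionVars false

namespace Cfsg.Agent.GLTwoThree

open scoped commutatorElement Pointwise

universe u

variable {G : Type u} [Group G] [Finite G] {t : G} (F : Frame t)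

theorem conj_conj (a b c : G) : MulAut.conj a (MulAut.conj b c) = MulAut.conj (a * b) c := by
  rw [map_mul, MulAut.mul_apply]

theorem pow_27_of_mem {Q : Subgroup G} (h : Nat.card Q ∣ 27) {a : G} (ha : a ∈ Q) : a ^ 27 = 1 := by
  rw [← orderOf_dvd_iff_pow_eq_one, ← Subgroup.orderOf_mk a ha]
  exact (orderOf_dvd_natCard _).trans h

theorem card_centralizer_conj' (g a : G) :
    Nat.card (Subgroup.centralizer ({MulAut.conj g a} : Set G)) =
      Nat.card (Subgroup.centralizer ({a} : Set G)) := by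
  symm
  refine Nat.card_congr ((MulAut.conj g).toEquiv.subtypeEquiv fun b => ?_)
  rw [Subgroup.mem_centralizer_singleton_iff, Subgroup.mem_centralizer_singleton_iff]
  exact (Commute.conj_iff g).symm

theorem centralizer_inv_eq (a : G) :
    Subgroup.centralizer ({a⁻¹} : Set G) = Subgroup.centralizer ({a} : Set G) := by
  ext b
  rw [Subgroup.mem_centralizer_singleton_iff, Subgroup.mem_centralizer_singleton_iff]
  exact ⟨fun h => Commute.inv_right_iff.mp h, fun h => Commute.inv_right h⟩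

/-- The order of the centraliser of an element is divisible by `27`. -/
def Big (a : G) : Prop := 27 ∣ Nat.card (Subgroup.centralizer ({a} : Set G))

theorem big_conj {g a : G} : Big (MulAut.conj g a) ↔ Big a := by rw [Big, Big, card_centralizer_conj']

theorem big_inv {a : G} : Big a⁻¹ ↔ Big a := by rw [Big, Big, centralizer_inv_eq]

/-- A subgroup of a centraliser in a `3`-group of order `27`. -/
theorem big_of_gt {P : Subgroup G} (hP : Nat.card P = 27) {a : G} {K : Subgroup G} (hKP : K ≤ P)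
    (hK : ∀ k ∈ K, Commute a k) (h9 : 9 < Nat.card K) : Big a := by
  haveI : Fact (Nat.Prime 3) := ⟨Nat.prime_three⟩
  have hd := Subgroup.card_dvd_of_le hKP
  rw [hP] at hd
  have hle := Nat.le_of_dvd (by norm_num) hd
  have : Nat.card K = 27 := by
    generalize Nat.card K = n at hd h9 hle ⊢
    interval_cases n <;> revert hd <;> decide
  rw [Big, ← this]
  refine Subgroup.card_dvd_of_le fun k hk => ?_
  exact Subgroup.mem_centralizer_singleton_iff.mpr (hK k hk).eq.symm

namespace Frame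

include F in
theorem tinv : t⁻¹ = t := inv_eq_of_mul_eq_one_right F.tt

theorem uinv : F.u⁻¹ = F.u := inv_eq_of_mul_eq_one_right F.uu

theorem ne_ut : F.u ≠ t := fun h => F.ne_tu (by rw [h]; exact F.tt)

theorem tu_sq : t * F.u * (t * F.u) = 1 := by
  calc t * F.u * (t * F.u) = t * F.u * (F.u * t) := by rw [F.tu]
    _ = t * (F.u * F.u) * t := by group
    _ = 1 := by rw [F.uu, mul_one, F.tt]

theorem rtu : MulAut.conj F.r (t * F.u) = t := by
  rw [map_mul, F.rt, F.ru, ← mul_assoc, ← F.tu, mul_assoc, F.uu, mul_one]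

theorem rinv_t : MulAut.conj F.r⁻¹ F.u = t ∧ MulAut.conj F.r⁻¹ (t * F.u) = F.u := by
  constructor
  · conv_lhs => rw [← F.rt, conj_conj, inv_mul_cancel, map_one, MulAut.one_apply]
  · rw [← F.ru, conj_conj, inv_mul_cancel, map_one, MulAut.one_apply]

/-- The conjugate element of order three. -/
def y : G := MulAut.conj F.w F.x

theorem conj_t_u (b : G) : MulAut.conj t (MulAut.conj F.u b) = MulAut.conj (t * F.u) b := conj_conj _ _ _

theorem t_x : MulAut.conj t F.x = F.x := conj_eq_of_commute F.tx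

theorem tu_x : MulAut.conj (t * F.u) F.x = F.x⁻¹ := by rw [← F.conj_t_u, F.ux, map_inv, F.t_x]

theorem t_y : MulAut.conj t F.y = F.y := by
  have h : MulAut.conj (MulAut.conj F.w t) (MulAut.conj F.w F.x) = MulAut.conj F.w (MulAut.conj t F.x) := by
    simp only [MulAut.conj_apply]; group
  rwa [F.wt, F.t_x] at h

theorem u_y : MulAut.conj F.u F.y = F.y⁻¹ := by
  have h : MulAut.conj F.w (t * F.u) = F.u := by rw [map_mul, F.wt, F.wu, ← mul_assoc, F.tt, one_mul]
  have h2 := congrArg (MulAut.conj F.w) F.tu_x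
  rw [MulAut.conj_apply (t * F.u), map_mul, map_mul, map_inv, map_inv, h] at h2
  rw [y, MulAut.conj_apply F.u]
  exact h2

/-- The behaviour of a conjugate by `r` of an element centralised by `t` and inverted by `u`. -/
theorem rot_inv {a : G} (h1 : MulAut.conj t a = a) (h2 : MulAut.conj F.u a = a⁻¹) :
    MulAut.conj F.u (MulAut.conj F.r a) = MulAut.conj F.r a ∧
    MulAut.conj t (MulAut.conj F.r a) = (MulAut.conj F.r a)⁻¹ ∧
    MulAut.conj t (MulAut.conj F.r (MulAut.conj F.r a)) = (MulAut.conj F.r (MulAut.conj F.r a))⁻¹ ∧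
    MulAut.conj F.u (MulAut.conj F.r (MulAut.conj F.r a)) = (MulAut.conj F.r (MulAut.conj F.r a))⁻¹ := by
  have key : ∀ s b : G, MulAut.conj (MulAut.conj F.r s) (MulAut.conj F.r b) =
      MulAut.conj F.r (MulAut.conj s b) := fun s b => by simp only [MulAut.conj_apply]; group
  have h3 : MulAut.conj (t * F.u) a = a⁻¹ := by rw [← F.conj_t_u, h2, map_inv, h1]
  have a1 := key t a
  have a2 := key (t * F.u) a
  rw [F.rt, h1] at a1
  rw [F.rtu, h3, map_inv] at a2
  refine ⟨a1, a2, ?_, ?_⟩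
  · have := key (t * F.u) (MulAut.conj F.r a)
    rw [F.rtu, ← F.conj_t_u, a1, a2, map_inv] at this
    exact this
  · have := key t (MulAut.conj F.r a)
    rw [F.rt, a2, map_inv] at this
    exact this

include F in
theorem card_inter_dvd {s : G} (g : G) (hs : MulAut.conj g t = s) {Q : Subgroup G}
    (hQ : Nat.card Q ∣ 27) : Nat.card ↥(Q ⊓ Subgroup.centralizer ({s} : Set G)) ∣ 3 := by
  have h1 : Nat.card ↥(Q ⊓ Subgroup.centralizer ({s} : Set G)) ∣ 27 :=
    (Subgroup.card_dvd_of_le inf_le_left).trans hQ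
  have h2 : Nat.card ↥(Q ⊓ Subgroup.centralizer ({s} : Set G)) ∣ 48 := by
    rw [← F.card_cent, ← card_centralizer_conj' g t, hs]
    exact Subgroup.card_dvd_of_le inf_le_right
  exact (Nat.dvd_gcd h1 h2).trans (by norm_num)

/-- The four-group. -/
def four_ : Subgroup G where
  carrier := {a | a = 1 ∨ a = t ∨ a = F.u ∨ a = t * F.u}
  one_mem' := Or.inl rfl
  mul_mem' := by
    have e1 : F.u * t = t * F.u := F.tu.symm
    have e2 : t * (t * F.u) = F.u := by rw [← mul_assoc, F.tt, one_mul]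
    have e3 : t * F.u * t = F.u := by rw [mul_assoc, e1, e2]
    have e4 : F.u * (t * F.u) = t := by rw [← mul_assoc, e1, mul_assoc, F.uu, mul_one]
    have e5 : t * F.u * F.u = t := by rw [mul_assoc, F.uu, mul_one]
    rintro a b (rfl | rfl | rfl | rfl) (rfl | rfl | rfl | rfl) <;>
      simp [F.tt, F.uu, e1, e2, e3, e4, e5, F.tu_sq]
  inv_mem' := by
    rintro a (rfl | rfl | rfl | rfl)
    · exact Or.inl inv_one
    · exact Or.inr (Or.inl F.tinv)
    · exact Or.inr (Or.inr (Or.inl F.uinv))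
    · exact Or.inr (Or.inr (Or.inr (inv_eq_of_mul_eq_one_right F.tu_sq)))

/-- An invariant Sylow subgroup of the centraliser of `x`. -/
theorem exists_Q (hG : Nat.card G = 5616) (hP : ∀ K : Subgroup G, IsPGroup 3 K → Nat.card K ∣ 27) :
    ∃ Q : Subgroup G, Nat.card Q ∣ 27 ∧ F.x ∈ Q ∧ (∀ q ∈ Q, Commute F.x q) ∧
      (∀ q ∈ Q, MulAut.conj t q ∈ Q) ∧ (∀ q ∈ Q, MulAut.conj F.u q ∈ Q) ∧
      ∀ j, 3 ^ j ∣ Nat.card (Subgroup.centralizer ({F.x} : Set G)) → 3 ^ j ∣ Nat.card Q := by
  haveI : Fact (Nat.Prime 3) := ⟨Nat.prime_three⟩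
  haveI : Fact (Nat.Prime 2) := ⟨Nat.prime_two⟩
  set C := Subgroup.centralizer ({F.x} : Set G) with hC
  have hmC : ∀ {a : G}, a ∈ C ↔ Commute F.x a := fun {a} =>
    Subgroup.mem_centralizer_singleton_iff.trans ⟨fun h => h.symm, fun h => h.symm⟩
  have htC : t ∈ C := hmC.mpr F.tx.symm
  have hdvd : Nat.card C ∣ 5616 := hG ▸ Subgroup.card_subgroup_dvd_card C
  have h4 : ¬ 4 ∣ Nat.card C := by
    intro h4
    have ht2 : IsPGroup 2 (Subgroup.zpowers (⟨t, htC⟩ : C)) := by
      refine IsPGroup.of_card (n := 1) ?_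
      rw [Nat.card_zpowers, Subgroup.orderOf_mk]
      exact (orderOf_eq_prime (by rw [pow_two, F.tt]) F.ne_t).trans (pow_one 2).symm
    obtain ⟨S, hS⟩ := ht2.exists_le_sylow
    have htS : (⟨t, htC⟩ : C) ∈ S := hS (Subgroup.mem_zpowers _)
    have hcard : 4 ∣ Nat.card S := S.pow_dvd_card_of_pow_dvd_card (n := 2) h4
    have h16 : ∀ s ∈ (S : Subgroup C), (s : G) ^ 16 = 1 := by
      intro s hs
      obtain ⟨k, hk⟩ := S.isPGroup'.exists_card_eq
      have hd : orderOf s ∣ 2 ^ k := hk ▸ (Subgroup.orderOf_mk s hs ▸ orderOf_dvd_natCard (⟨s, hs⟩ : S))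
      obtain ⟨i, -, hi⟩ := (Nat.dvd_prime_pow Nat.prime_two).mp hd
      have h5 : orderOf s ∣ 5616 := ((orderOf_dvd_natCard s)).trans hdvd
      rw [hi] at h5
      have hi4 : i ≤ 4 := by
        by_contra hlt
        have : (2 : ℕ) ^ 5 ∣ 5616 := (pow_dvd_pow 2 (by omega)).trans h5
        norm_num at this
      have h6 : s ^ (2 ^ 4) = 1 :=
        orderOf_dvd_iff_pow_eq_one.mp (hi.symm ▸ pow_dvd_pow 2 hi4 : orderOf s ∣ 2 ^ 4)
      exact congrArg Subtype.val h6
    haveI : Nontrivial S := Finite.one_lt_card_iff_nontrivial.mp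
      (lt_of_lt_of_le (by norm_num) (Nat.le_of_dvd Nat.card_pos hcard))
    obtain ⟨⟨z, hzS⟩, hzc, hz1⟩ :=
      (Subgroup.nontrivial_iff_exists_ne_one _).mp S.isPGroup'.center_nontrivial
    have hzt := congrArg (fun a : S => ((a : C) : G)) (Subgroup.mem_center_iff.mp hzc ⟨_, htS⟩)
    have hz : (z : G) = t := (F.two _ hzt (hmC.mp z.2) (h16 z hzS)).resolve_left
      fun h => hz1 (Subtype.ext (Subtype.ext h))
    have hall : ∀ s ∈ (S : Subgroup C), (s : G) = 1 ∨ (s : G) = t := by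
      intro s hs
      have h := congrArg (fun a : S => ((a : C) : G)) (Subgroup.mem_center_iff.mp hzc ⟨_, hs⟩)
      simp only [Subgroup.coe_mul] at h
      rw [hz] at h
      exact F.two _ h.symm (hmC.mp s.2) (h16 s hs)
    have : Nat.card S ≤ Nat.card Bool := by
      classical
      refine Nat.card_le_card_of_injective (fun s : S => decide (((s : C) : G) = 1)) fun a b hab => ?_
      refine Subtype.ext (Subtype.ext ?_)
      simp only [decide_eq_decide] at hab
      rcases hall _ a.2 with ha | ha <;> rcases hall _ b.2 with hb | hb <;>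
        simp_all [F.ne_t]
    rw [Nat.card_eq_fintype_card (α := Bool), Fintype.card_bool] at this
    have := Nat.le_of_dvd Nat.card_pos hcard
    omega
  have hWsq : ∀ a : F.four_, (a : G) * a = 1 := by
    rintro ⟨a, rfl | rfl | rfl | rfl⟩
    · exact one_mul 1
    · exact F.tt
    · exact F.uu
    · exact F.tu_sq
  have hWn : F.four_ ≤ Subgroup.normalizer (C : Set G) := by
    intro a ha
    have hxa : MulAut.conj a F.x = F.x ∨ MulAut.conj a F.x = F.x⁻¹ := by
      rcases ha with rfl | rfl | rfl | rfl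
      · exact Or.inl (by rw [map_one, MulAut.one_apply])
      · exact Or.inl F.t_x
      · exact Or.inr F.ux
      · exact Or.inr F.tu_x
    rw [Subgroup.mem_normalizer_iff]
    intro b
    rw [hmC, hmC, ← MulAut.conj_apply]
    rcases hxa with h | h
    · conv_rhs => rw [← h]
      exact (Commute.conj_iff a).symm
    · rw [← Commute.inv_left_iff (a := F.x) (b := MulAut.conj a b), ← h]
      exact (Commute.conj_iff a).symm
  let φ : F.four_ →* MulAut C :=
    (Subgroup.normalizerMonoidHom C).comp (Subgroup.inclusion hWn)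
  letI : MulAction F.four_ (Sylow 3 C) := MulAction.compHom _ φ
  have hW : IsPGroup 2 F.four_ := fun a => ⟨1, Subtype.ext (by
    rw [pow_one, pow_two, Subgroup.coe_mul]; exact hWsq a)⟩
  have hn : ¬ 2 ∣ Nat.card (Sylow 3 C) := by
    have h1 : Nat.card (Sylow 3 C) ∣ Nat.card C :=
      ((default : Sylow 3 C).card_dvd_index).trans (Subgroup.index_dvd_card _)
    have h2 : Nat.card (Sylow 3 C) % 3 = 1 := card_sylow_modEq_one 3 C
    have h3 : Nat.card (Sylow 3 C) ∣ 208 := by
      suffices hco : Nat.Coprime (Nat.card (Sylow 3 C)) (3 ^ 3) from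
        hco.dvd_of_dvd_mul_right (h1.trans hdvd : _ ∣ 208 * 3 ^ 3)
      refine Nat.Coprime.pow_right 3 (Nat.Coprime.symm ((Nat.Prime.coprime_iff_not_dvd Nat.prime_three).2 fun h => ?_))
      omega
    have h5 : ¬ 4 ∣ Nat.card (Sylow 3 C) := fun h => h4 (h.trans h1)
    have h6 : Nat.card (Sylow 3 C) ∈ Nat.divisors 208 := Nat.mem_divisors.mpr ⟨h3, by norm_num⟩
    have h7 : ∀ n ∈ Nat.divisors 208, n % 3 = 1 → ¬ 4 ∣ n → ¬ 2 ∣ n := by decide +kernel
    exact h7 _ h6 h2 h5
  obtain ⟨P, hPfix⟩ := hW.nonempty_fixed_point_of_prime_not_dvd_card (Sylow 3 C) hn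
  have hfix : ∀ a : F.four_, ∀ p ∈ (P : Subgroup C), φ a p ∈ (P : Subgroup C) := by
    intro a p hp
    have h := congrArg (fun S : Sylow 3 C => (S : Subgroup C)) (hPfix a)
    change φ a • (P : Subgroup C) = (P : Subgroup C) at h
    exact h ▸ Subgroup.smul_mem_pointwise_smul p (φ a) _ hp
  refine ⟨(P : Subgroup C).map C.subtype, hP _ (P.isPGroup'.map _), ?_, ?_, ?_, ?_, ?_⟩
  · refine ⟨⟨F.x, hmC.mpr (Commute.refl _)⟩, ?_, rfl⟩
    set x' : C := ⟨F.x, hmC.mpr (Commute.refl _)⟩
    haveI : (Subgroup.zpowers x').Normal := by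
      refine ⟨fun a ha g => ?_⟩
      obtain ⟨k, rfl⟩ := Subgroup.mem_zpowers_iff.mp ha
      have hg : Commute x' g := Subtype.ext (hmC.mp g.2).eq
      rw [← (hg.zpow_left k).eq, mul_inv_cancel_right]
      exact Subgroup.zpow_mem _ (Subgroup.mem_zpowers _) k
    have hx' : IsPGroup 3 (Subgroup.zpowers x') := by
      refine IsPGroup.of_card (n := 1) ?_
      rw [Nat.card_zpowers, Subgroup.orderOf_mk]
      exact orderOf_eq_prime F.x3 F.x1
    have := P.is_maximal' (hx'.to_sup_of_normal_left P.isPGroup') le_sup_right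
    exact this ▸ (le_sup_left : _ ≤ Subgroup.zpowers x' ⊔ (P : Subgroup C)) (Subgroup.mem_zpowers x')
  · rintro q ⟨p, -, rfl⟩
    exact hmC.mp p.2
  · rintro q ⟨p, hp, rfl⟩
    exact ⟨_, hfix ⟨t, Or.inr (Or.inl rfl)⟩ p hp, rfl⟩
  · rintro q ⟨p, hp, rfl⟩
    exact ⟨_, hfix ⟨F.u, Or.inr (Or.inr (Or.inl rfl))⟩ p hp, rfl⟩
  · intro j hj
    rw [Subgroup.card_map_of_injective C.subtype_injective]
    exact P.pow_dvd_card_of_pow_dvd_card hj

theorem nine_dvd (hG : Nat.card G = 5616) :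
    9 ∣ Nat.card (Subgroup.centralizer ({F.x} : Set G)) := by
  haveI : Fact (Nat.Prime 3) := ⟨Nat.prime_three⟩
  have hx : IsPGroup 3 (Subgroup.zpowers F.x) := by
    refine IsPGroup.of_card (n := 1) ?_
    rw [Nat.card_zpowers]
    exact orderOf_eq_prime F.x3 F.x1
  obtain ⟨P, hP⟩ := hx.exists_le_sylow
  have hcard : Nat.card P = 27 := by
    obtain ⟨k, hk⟩ := P.isPGroup'.exists_card_eq
    have h1 : 3 ^ 3 ∣ Nat.card P := P.pow_dvd_card_of_pow_dvd_card (n := 3) (by rw [hG]; norm_num)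
    have h2 : Nat.card P ∣ 5616 := hG ▸ Subgroup.card_subgroup_dvd_card (P : Subgroup G)
    have h3 : k ≤ 3 := by
      by_contra hlt
      rw [hk] at h2
      have : (3 : ℕ) ^ 4 ∣ 5616 := (pow_dvd_pow 3 (by omega)).trans h2
      norm_num at this
    refine Nat.dvd_antisymm ?_ (by simpa using h1)
    rw [hk]
    exact (pow_dvd_pow 3 h3).trans (by norm_num)
  haveI : Nontrivial P := Finite.one_lt_card_iff_nontrivial.mp (by rw [hcard]; norm_num)
  set K := (P : Subgroup G) ⊓ Subgroup.centralizer ({F.x} : Set G) with hK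
  have hd : Nat.card K ∣ 27 := hcard ▸ Subgroup.card_dvd_of_le inf_le_left
  suffices 3 < Nat.card K by
    have h9 : 9 ∣ Nat.card K := by
      have hle := Nat.le_of_dvd (by norm_num) hd
      generalize Nat.card K = n at this hd hle ⊢
      interval_cases n <;> revert hd <;> decide
    exact h9.trans (Subgroup.card_dvd_of_le inf_le_right)
  have hxK : F.x ∈ K := ⟨hP (Subgroup.mem_zpowers _), Subgroup.mem_centralizer_singleton_iff.mpr rfl⟩
  by_contra hle
  have hKx : K = Subgroup.zpowers F.x := (Subgroup.eq_of_le_of_card_ge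
    (by rwa [Subgroup.zpowers_le]) (by rw [Nat.card_zpowers, orderOf_eq_prime F.x3 F.x1]; omega)).symm
  obtain ⟨⟨z, hzP⟩, hzc, hz1⟩ :=
    (Subgroup.nontrivial_iff_exists_ne_one _).mp P.isPGroup'.center_nontrivial
  have hzx : z * F.x = F.x * z :=
    (congrArg (Subtype.val : P → G) (Subgroup.mem_center_iff.mp hzc ⟨F.x, hxK.1⟩)).symm
  have hzK : z ∈ K := ⟨hzP, Subgroup.mem_centralizer_singleton_iff.mpr hzx⟩
  rw [hKx] at hzK
  -- so `x` is central
  have hzz : Subgroup.zpowers z = Subgroup.zpowers F.x := Subgroup.eq_of_le_of_card_ge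
    (by rwa [Subgroup.zpowers_le]) (by
      rw [Nat.card_zpowers, Nat.card_zpowers, orderOf_eq_prime F.x3 F.x1]
      obtain ⟨k, rfl⟩ := Subgroup.mem_zpowers_iff.mp hzK
      refine le_of_eq (orderOf_eq_prime ?_ fun h => hz1 (Subtype.ext h)).symm
      rw [← zpow_natCast, ← zpow_mul, mul_comm k, zpow_mul, zpow_natCast, F.x3, _root_.one_zpow])
  have hall : (P : Subgroup G) ≤ K := by
    intro g hg
    refine ⟨hg, Subgroup.mem_centralizer_singleton_iff.mpr ?_⟩
    have hgz : Commute g z := congrArg (Subtype.val : P → G) (Subgroup.mem_center_iff.mp hzc ⟨g, hg⟩)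
    obtain ⟨k, hk⟩ := Subgroup.mem_zpowers_iff.mp (hzz ▸ Subgroup.mem_zpowers F.x : F.x ∈ Subgroup.zpowers z)
    rw [← hk]
    exact (hgz.zpow_right k).eq
  have := Subgroup.card_le_of_le hall
  rw [hcard] at this
  omega

variable {F}

/-- An element of the invariant Sylow subgroup centralised by a conjugate of `t`. -/
theorem ident {Q : Subgroup G} (hQ : Nat.card Q ∣ 27) (g : G) {a : G} (haQ : a ∈ Q) (ha1 : a ≠ 1)
    (hs : Commute (MulAut.conj g t) a) (hinv : MulAut.conj (MulAut.conj g F.u) a ∈ Q) :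
    a = MulAut.conj g F.x ∨ a = (MulAut.conj g F.x)⁻¹ ∨ a = MulAut.conj g F.y ∨
      a = (MulAut.conj g F.y)⁻¹ := by
  have h1 : MulAut.conj g (MulAut.conj g⁻¹ a) = a := by simp only [MulAut.conj_apply]; group
  have h2 : Commute t (MulAut.conj g⁻¹ a) := by
    have := hs.map (MulAut.conj g⁻¹)
    rwa [conj_conj, inv_mul_cancel, map_one, MulAut.one_apply] at this
  have h3 : MulAut.conj g⁻¹ a * MulAut.conj F.u (MulAut.conj g⁻¹ a) =
      MulAut.conj g⁻¹ (a * MulAut.conj (MulAut.conj g F.u) a) := by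
    simp only [MulAut.conj_apply]; group
  have h4 := F.four _ h2 (by rw [← map_pow, pow_27_of_mem hQ haQ, map_one])
    (fun h => ha1 (by rw [← h1, h, map_one]))
    (by rw [h3, ← map_pow, pow_27_of_mem hQ (Q.mul_mem haQ hinv), map_one])
  rcases h4 with h | h | h | h <;> rw [← h1, h] <;>
    simp only [map_inv, y, true_or, or_true]

/-- A fixed-point-free involution inverts. -/
theorem inverts {Q : Subgroup G} (s : G) (hs : s * s = 1) (hQs : ∀ q ∈ Q, MulAut.conj s q ∈ Q)
    (hfree : ∀ q ∈ Q, MulAut.conj s q = q → q = 1) : ∀ q ∈ Q, MulAut.conj s q = q⁻¹ := by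
  let f : Q → Q := fun a => ⟨(a : G)⁻¹ * MulAut.conj s a, Q.mul_mem (Q.inv_mem a.2) (hQs _ a.2)⟩
  have hf : Function.Injective f := by
    intro a b hab
    have h : (a : G)⁻¹ * MulAut.conj s a = (b : G)⁻¹ * MulAut.conj s b := congrArg Subtype.val hab
    have h' : MulAut.conj s ((b : G) * (a : G)⁻¹) = (b : G) * (a : G)⁻¹ := by
      have h6 : (b : G) * (a : G)⁻¹ * MulAut.conj s a = MulAut.conj s b := by
        rw [mul_assoc, h, mul_inv_cancel_left]
      rw [map_mul, map_inv, ← h6]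
      group
    exact Subtype.ext (mul_inv_eq_one.mp (hfree _ (Q.mul_mem b.2 (Q.inv_mem a.2)) h')).symm
  intro q hq
  obtain ⟨a, ha⟩ := (Finite.injective_iff_surjective.mp hf) ⟨q, hq⟩
  have hval : (a : G)⁻¹ * MulAut.conj s a = q := congrArg Subtype.val ha
  rw [← hval, map_mul, map_inv, conj_conj, hs, map_one, MulAut.one_apply, mul_inv_rev, inv_inv]

theorem neighbour {Q : Subgroup G} (hd : Nat.card Q ∣ 27) (h9 : 9 ∣ Nat.card Q) (hx : F.x ∈ Q)
    (ht : ∀ q ∈ Q, MulAut.conj t q ∈ Q) (hu : ∀ q ∈ Q, MulAut.conj F.u q ∈ Q)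
    (h27 : Nat.card Q = 27 → ∀ s ∈ ({F.u, t * F.u} : Set G), ¬ ∀ q ∈ Q, MulAut.conj s q = q → q = 1) :
    ∃ s ∈ ({F.u, t * F.u} : Set G), ∃ a ∈ Q, a ≠ 1 ∧ MulAut.conj s a = a := by
  by_contra hno
  push Not at hno
  have h1 := inverts F.u F.uu hu fun q hq h => by_contra fun hne => hno _ (Or.inl rfl) q hq hne h
  have h2 := inverts (t * F.u) F.tu_sq (fun q hq => F.conj_t_u q ▸ ht _ (hu q hq))
    fun q hq h => by_contra fun hne => hno _ (Or.inr rfl) q hq hne h
  have hle : Q ≤ Q ⊓ Subgroup.centralizer ({t} : Set G) := by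
    intro q hq
    refine ⟨hq, Subgroup.mem_centralizer_singleton_iff.mpr ?_⟩
    have h := h2 q hq
    rw [← F.conj_t_u, h1 q hq, map_inv, inv_inj] at h
    exact (commute_of_conj_eq h).eq.symm
  have := Nat.le_of_dvd (by norm_num) (F.card_inter_dvd 1 (by rw [map_one, MulAut.one_apply]) hd)
  have := Subgroup.card_le_of_le hle
  have := Nat.le_of_dvd Nat.card_pos h9
  omega

/-- If the Sylow subgroup is full, each of the two involutions fixes a non-trivial element. -/
theorem not_free {Q : Subgroup G} (hd : Nat.card Q = 27) (ht : ∀ q ∈ Q, MulAut.conj t q ∈ Q)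
    (hu : ∀ q ∈ Q, MulAut.conj F.u q ∈ Q) {s : G} (hs : s = F.u ∨ s = t * F.u) :
    ¬ ∀ q ∈ Q, MulAut.conj s q = q → q = 1 := by
  intro hfree
  set s' := t * s with hs'
  obtain ⟨g, hg⟩ : ∃ g, MulAut.conj g t = s' := by
    rcases hs with rfl | rfl
    · exact ⟨F.r * F.r, by rw [map_mul, MulAut.mul_apply, F.rt, F.ru]⟩
    · exact ⟨F.r, by rw [hs', ← mul_assoc, F.tt, one_mul, F.rt]⟩
  have hss : s * s = 1 := by rcases hs with rfl | rfl; exacts [F.uu, F.tu_sq]
  have hts : t * s = s * t := by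
    rcases hs with rfl | rfl
    · exact F.tu
    · rw [← mul_assoc, F.tt, one_mul, mul_assoc, ← F.tu, ← mul_assoc, F.tt, one_mul]
  have hsQ : ∀ q ∈ Q, MulAut.conj s q ∈ Q := by
    rcases hs with rfl | rfl
    exacts [hu, fun q hq => F.conj_t_u q ▸ ht _ (hu q hq)]
  have hinv := inverts s hss hsQ hfree
  have hcomm : ∀ a ∈ Q, ∀ b ∈ Q, a * b = b * a := by
    intro a ha b hb
    have h := hinv _ (Q.mul_mem ha hb)
    rw [map_mul, hinv a ha, hinv b hb, mul_inv_rev] at h
    calc a * b = (b⁻¹ * a⁻¹)⁻¹ := by group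
      _ = (a⁻¹ * b⁻¹)⁻¹ := by rw [h]
      _ = b * a := by group
  let f : Q → ↥(Q ⊓ Subgroup.centralizer ({t} : Set G)) × ↥(Q ⊓ Subgroup.centralizer ({s'} : Set G)) :=
    fun q => (⟨(q : G) * MulAut.conj t q, Q.mul_mem q.2 (ht _ q.2),
        Subgroup.mem_centralizer_singleton_iff.mpr (commute_of_conj_eq (by
          rw [map_mul, conj_conj, F.tt, map_one, MulAut.one_apply]
          exact hcomm _ (ht _ q.2) _ q.2)).eq.symm⟩,
      ⟨(q : G) * MulAut.conj t (q : G)⁻¹, Q.mul_mem q.2 (ht _ (Q.inv_mem q.2)),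
        Subgroup.mem_centralizer_singleton_iff.mpr (commute_of_conj_eq (by
          rw [hs', ← conj_conj t s, map_mul, map_mul, hinv _ q.2, conj_conj s t, ← hts, ← conj_conj t s,
            hinv _ (Q.inv_mem q.2), inv_inv, conj_conj t t, F.tt, map_one, MulAut.one_apply]
          exact hcomm _ (ht _ (Q.inv_mem q.2)) _ q.2)).eq.symm⟩)
  have hf : Function.Injective f := by
    intro a b hab
    have h1 : (a : G) * MulAut.conj t a = (b : G) * MulAut.conj t b :=
      congrArg (fun p => (p.1 : G)) hab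
    have h2 : (a : G) * MulAut.conj t (a : G)⁻¹ = (b : G) * MulAut.conj t (b : G)⁻¹ :=
      congrArg (fun p => (p.2 : G)) hab
    have key : ∀ q ∈ Q, q * MulAut.conj t q * (q * MulAut.conj t q⁻¹) = q ^ 2 := by
      intro q hq
      rw [hcomm _ hq _ (ht _ hq), mul_assoc, ← mul_assoc q q, ← pow_two,
        hcomm _ (Q.pow_mem hq 2) _ (ht _ (Q.inv_mem hq)), ← mul_assoc, ← map_mul, mul_inv_cancel,
        map_one, one_mul]
    have hsq : (a : G) ^ 2 = (b : G) ^ 2 := by
      rw [← key _ a.2, ← key _ b.2, h1, h2]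
    refine Subtype.ext ?_
    calc (a : G) = ((a : G) ^ 2) ^ 14 := by
          rw [← pow_mul, show 2 * 14 = 27 + 1 from rfl, pow_succ, pow_27_of_mem (hd ▸ dvd_rfl) a.2,
            one_mul]
      _ = ((b : G) ^ 2) ^ 14 := by rw [hsq]
      _ = b := by
          rw [← pow_mul, show 2 * 14 = 27 + 1 from rfl, pow_succ, pow_27_of_mem (hd ▸ dvd_rfl) b.2,
            one_mul]
  have hle := Nat.card_le_card_of_injective f hf
  rw [Nat.card_prod, hd] at hle
  have b1 := Nat.le_of_dvd (by norm_num) (F.card_inter_dvd 1 (by rw [map_one, MulAut.one_apply]) (hd ▸ dvd_rfl : Nat.card Q ∣ 27))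
  have b2 := Nat.le_of_dvd (by norm_num) (F.card_inter_dvd g hg (hd ▸ dvd_rfl : Nat.card Q ∣ 27))
  have := Nat.mul_le_mul b1 b2
  omega

end Frame

end Cfsg.Agent.GLTwoThree
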