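import Cfsg.Agent.Lib.GLTwoThree.Main
import Cfsg.Prelude.Def_Transfer

/-!
# A group without subgroups of index two with an involution centraliser `GL(2,3)` is simple
-/

set_option autoImplicit false
set_option linter.style.haveILetI false
set_option linter.unusedSectionVars false

namespace Cfsg.Agent.GLTwoThree

open Cfsg

universe u

variable {G : Type u} [Group G] [Finite G] {t : G} (ht : orderOf t = 2)
  (e : Subgroup.centralizer ({t} : Set G) ≃* Matrix.GeneralLinearGroup (Fin 2) (ZMod 3))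

/-- The element with given coordinates. -/
noncomputable def el (v : V) : G :=
  if h : v ∈ U then ((co'_surj e h).choose : G) else 1

theorem el_mem (v : V) : el e v ∈ Subgroup.centralizer ({t} : Set G) := by
  unfold el
  split_ifs
  · exact SetLike.coe_mem _
  · exact Subgroup.one_mem _

theorem co'_el {v : V} (hv : v ∈ U) : co' e ⟨el e v, el_mem e v⟩ = v := by
  have : (⟨el e v, el_mem e v⟩ : Subgroup.centralizer ({t} : Set G)) = (co'_surj e hv).choose :=
    Subtype.ext (by simp only [el]; rw [dif_pos hv])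
  rw [this]
  exact (co'_surj e hv).choose_spec

theorem exists_el {g : G} (hg : g ∈ Subgroup.centralizer ({t} : Set G)) :
    ∃ v ∈ U, el e v = g :=
  ⟨co' e ⟨g, hg⟩, co'_mem e _, congrArg Subtype.val (co'_injective e (co'_el e (co'_mem e ⟨g, hg⟩)))⟩

theorem el_injOn {v w' : V} (hv : v ∈ U) (hw : w' ∈ U) (h : el e v = el e w') : v = w' := by
  rw [← co'_el e hv, ← co'_el e hw]
  exact congrArg _ (Subtype.ext h)

theorem el_mul {v w' : V} (hv : v ∈ U) (hw : w' ∈ U) : el e v * el e w' = el e (mul v w') := by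
  refine congrArg Subtype.val (co'_injective e (a₁ := (⟨_, el_mem e v⟩ : Subgroup.centralizer ({t} : Set G)) * ⟨_, el_mem e w'⟩) (a₂ := ⟨_, el_mem e (mul v w')⟩) ?_)
  rw [co'_mul, co'_el e hv, co'_el e hw, co'_el e (mul_mem' v hv w' hw)]

theorem el_one : el e one = 1 :=
  congrArg Subtype.val (co'_injective e (a₂ := 1) ((co'_el e one_mem).trans (co'_one e).symm))

theorem el_inv {v : V} (hv : v ∈ U) : (el e v)⁻¹ = el e (inv v) :=
  inv_eq_of_mul_eq_one_left (by rw [el_mul e (inv_mul' v hv).2 hv, (inv_mul' v hv).1, el_one])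

theorem el_cj {x v : V} (hx : x ∈ U) (hv : v ∈ U) :
    (el e x)⁻¹ * el e v * el e x = el e (cj x v) := by
  rw [el_inv e hx, mul_assoc, el_mul e hv hx, el_mul e (inv_mul' x hx).2 (mul_mem' v hv x hx), cj]

theorem pw_mem : ∀ (v : V), v ∈ U → ∀ k : ℕ, pw v k ∈ U
  | _, _, 0 => one_mem
  | v, hv, k + 1 => mul_mem' v hv _ (pw_mem v hv k)

theorem el_pow {v : V} (hv : v ∈ U) : ∀ k : ℕ, el e v ^ k = el e (pw v k)
  | 0 => by rw [pow_zero, pw, el_one]
  | k + 1 => by rw [pow_succ', el_pow hv k, el_mul e hv (pw_mem v hv k), pw]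

include ht in
theorem el_negOne : el e negOne = t := eq_t ht e (z := ⟨el e negOne, el_mem e negOne⟩) (co'_el e (by decide +kernel))

theorem el_eq_one {v : V} (hv : v ∈ U) (h : el e v = 1) : v = one :=
  el_injOn e hv one_mem (h.trans (el_one e).symm)

include e in
/-- An element of the centraliser killed by an odd power is killed by the third. -/
theorem pow_three {g : G} (hg : g ∈ Subgroup.centralizer ({t} : Set G)) {n : ℕ} (hn : ¬ 2 ∣ n)
    (h : g ^ n = 1) : g ^ 3 = 1 := by
  have h48 : orderOf g ∣ 48 := by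
    rw [← card_X e, ← Subgroup.orderOf_mk g hg]
    exact orderOf_dvd_natCard _
  have hco : (orderOf g).Coprime 16 := by
    refine Nat.Coprime.pow_right 4 (Nat.Coprime.symm ((Nat.Prime.coprime_iff_not_dvd Nat.prime_two).2 fun h2 => ?_))
    exact hn (h2.trans (orderOf_dvd_of_pow_eq_one h))
  exact orderOf_dvd_iff_pow_eq_one.1 (hco.dvd_of_dvd_mul_left (show orderOf g ∣ 16 * 3 from h48))

include ht e in
/-- There is one class of involutions, as there is no subgroup of index two. -/
theorem isConj_t' (hidx : ∀ f : G →* ℤˣ, f = 1) {u : G} (hu : orderOf u = 2) : IsConj t u := by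
  haveI : Fact (Nat.Prime 2) := ⟨Nat.prime_two⟩
  let p : V → Prop := fun x => InP x ∧ det x = 1
  have h1 : p one := ⟨Or.inl (by decide +kernel), by decide +kernel⟩
  have hm : ∀ x ∈ U, ∀ y ∈ U, p x → p y → p (mul x y) := fun x hx y hy a b => by
    refine ⟨InP_mul x hx y hy a.1 b.1, ?_⟩
    have : ∀ x y : V, det (mul x y) = det x * det y := fun x y => by simp only [det, mul]; ring
    rw [this, a.2, b.2, mul_one]
  set M := sub e p h1 hm with hM
  have hMc : Nat.card M = 8 := by rw [hM, card_sub, InP_spec.2]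
  obtain ⟨h16, h32⟩ := two_part ht e
  obtain ⟨m, hm2⟩ : ∃ m, M.index = 2 * m ∧ ¬ 2 ∣ m := by
    have h := M.card_mul_index
    rw [hMc] at h
    obtain ⟨k, hk⟩ := h16
    exact ⟨k, by omega, by omega⟩
  by_cases hfix : ∃ q : G ⧸ M, u • q = q
  · obtain ⟨q, hq⟩ := hfix
    obtain ⟨g, rfl⟩ := QuotientGroup.mk_surjective q
    have hq' : ((u * g : G) : G ⧸ M) = (g : G ⧸ M) := hq
    have hmem : g⁻¹ * u * g ∈ M := by
      rw [mul_assoc]
      exact QuotientGroup.eq.mp hq'.symm
    obtain ⟨hH, -, hdet⟩ := hmem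
    have hord : orderOf (g⁻¹ * u * g) = 2 := by
      rw [show g⁻¹ * u * g = MulAut.conj g⁻¹ u by simp, MulEquiv.orderOf_eq, hu]
    have hsq : g⁻¹ * u * g * (g⁻¹ * u * g) = 1 := by rw [← pow_two, ← hord, pow_orderOf_eq_one]
    rcases invol_dets _ (co'_mem e ⟨_, hH⟩) ((sq_one_iff e ⟨_, hH⟩).mp hsq) hdet with h | h
    · exfalso
      refine (ne_one_iff e ⟨_, hH⟩).mp (fun h' => ?_) h
      rw [show g⁻¹ * u * g = 1 from h', orderOf_one] at hord
      omega
    · exact isConj_iff.mpr ⟨g, by rw [← eq_t ht e h]; group⟩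
  · exfalso
    push Not at hfix
    haveI : Fintype (G ⧸ M) := Fintype.ofFinite _
    classical
    let σ : G →* Equiv.Perm (G ⧸ M) := MulAction.toPermHom G (G ⧸ M)
    have hne : σ u ≠ 1 := fun h => hfix ((1 : G) : G ⧸ M) (Equiv.Perm.ext_iff.mp h ((1 : G) : G ⧸ M))
    have hord : orderOf (σ u) = 2 := orderOf_eq_prime
      (by rw [← map_pow, ← hu, pow_orderOf_eq_one, map_one]) hne
    obtain ⟨k, hk⟩ := Equiv.Perm.cycleType_prime_order (σ := σ u) (by rw [hord]; exact Nat.prime_two)
    have hsupp : (σ u).support = Finset.univ :=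
      Finset.eq_univ_of_forall fun q => Equiv.Perm.mem_support.mpr (hfix q)
    have hsum := Equiv.Perm.sum_cycleType (σ u)
    rw [hk, hord, hsupp, Multiset.sum_replicate, Finset.card_univ, ← Nat.card_eq_fintype_card,
      ← Subgroup.index_eq_card, hm2.1, smul_eq_mul] at hsum
    have hsign : Equiv.Perm.sign (σ u) = -1 := by
      rw [Equiv.Perm.sign_of_cycleType, hk, hord, Multiset.sum_replicate, Multiset.card_replicate,
        smul_eq_mul, Odd.neg_one_pow]
      have := hm2.2
      exact Nat.odd_iff.mpr (by omega)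
    have h := DFunLike.congr_fun (hidx (Equiv.Perm.sign.comp σ)) u
    rw [MonoidHom.comp_apply, hsign, MonoidHom.one_apply] at h
    exact absurd h (by decide)

/-- In `GL(2,3)` no non-trivial normal subgroup has odd order. -/
theorem odd_check : ∀ v ∈ U, pw v 3 = one → v ≠ one →
    ∃ g ∈ U, mul v (cj g v) ≠ one ∧ pw (mul v (cj g v)) 4 = one := by decide +kernel

/-- The involutions. -/
def invols : Finset V := U.filter fun v => mul v v = one

/-- `GL(2,3)` is generated by its involutions. -/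
theorem gen_check : ∀ v ∈ U, ∃ a ∈ invols, ∃ b ∈ invols, ∃ c ∈ invols, mul (mul a b) c = v := by
  decide +kernel

theorem u0_check : ((1, 0, 0, 2) : V) ∈ U ∧ mul (1, 0, 0, 2) (1, 0, 0, 2) = one ∧
    ((1, 0, 0, 2) : V) ≠ one ∧ mul negOne (1, 0, 0, 2) ∈ U ∧
    mul (mul negOne (1, 0, 0, 2)) (mul negOne (1, 0, 0, 2)) = one ∧
    mul negOne (1, 0, 0, 2) ≠ one ∧ negOne ∈ U := by decide +kernel

theorem el_invol {v : V} (hv : v ∈ U) (hsq : mul v v = one) (hne : v ≠ one) :
    orderOf (el e v) = 2 := by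
  haveI : Fact (Nat.Prime 2) := ⟨Nat.prime_two⟩
  exact orderOf_eq_prime (by rw [pow_two, el_mul e hv hv, hsq, el_one])
    fun h => hne (el_eq_one e hv h)

include ht e in
/-- The group is simple. -/
theorem isSimple (hidx : ∀ f : G →* ℤˣ, f = 1) : IsSimpleGroup G := by
  haveI : Fact (Nat.Prime 2) := ⟨Nat.prime_two⟩
  haveI : Nontrivial G := ⟨t, 1, fun h => by rw [h, orderOf_one] at ht; omega⟩
  refine ⟨fun N hN => ?_⟩
  by_cases h2 : 2 ∣ Nat.card N
  · right
    obtain ⟨⟨i, hiN⟩, hi⟩ := exists_prime_orderOf_dvd_card' (G := N) 2 h2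
    rw [Subgroup.orderOf_mk] at hi
    have hall : ∀ a : G, orderOf a = 2 → a ∈ N := by
      intro a ha
      obtain ⟨g, hg⟩ := isConj_iff.mp ((isConj_t' ht e hidx hi).symm.trans (isConj_t' ht e hidx ha))
      rw [← hg]
      exact hN.conj_mem i hiN g
    have hI : ∀ a ∈ invols, el e a ∈ N := by
      intro a ha
      obtain ⟨haU, hsq⟩ := Finset.mem_filter.mp ha
      by_cases h1 : a = one
      · rw [h1, el_one]; exact N.one_mem
      · exact hall _ (el_invol e haU hsq h1)
    have hCN : Subgroup.centralizer ({t} : Set G) ≤ N := by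
      intro g hg
      obtain ⟨v, hv, rfl⟩ := exists_el e hg
      obtain ⟨a, ha, b, hb, c, hc, rfl⟩ := gen_check v hv
      obtain ⟨haU, -⟩ := Finset.mem_filter.mp ha
      obtain ⟨hbU, -⟩ := Finset.mem_filter.mp hb
      obtain ⟨hcU, -⟩ := Finset.mem_filter.mp hc
      rw [← el_mul e (mul_mem' a haU b hbU) hcU, ← el_mul e haU hbU]
      exact N.mul_mem (N.mul_mem (hI a ha) (hI b hb)) (hI c hc)
    have h1 : InP one := Or.inl (by decide +kernel)
    set P₀ := sub e InP h1 InP_mul with hP₀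
    have hcard : Nat.card P₀ = 2 ^ 4 := by rw [hP₀, card_sub, InP_spec.1]; norm_num
    obtain ⟨S, hS⟩ := (IsPGroup.of_card hcard).exists_le_sylow
    obtain ⟨h16, h32⟩ := two_part ht e
    have hSeq : (S : Subgroup G) = P₀ := by
      refine (Subgroup.eq_of_le_of_card_ge hS ?_).symm
      obtain ⟨k, hk⟩ := S.isPGroup'.exists_card_eq
      have hd := Subgroup.card_subgroup_dvd_card (S : Subgroup G)
      rw [hk] at hd ⊢
      rw [hcard]
      refine Nat.pow_le_pow_right (by norm_num) ?_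
      by_contra hlt
      exact h32 ((pow_dvd_pow 2 (show 5 ≤ k by omega)).trans hd)
    have hSN : (S : Subgroup G) ≤ N := hSeq ▸ fun g hg => hCN hg.1
    have htP : t ∈ P₀ := ⟨t_mem, by rw [co'_t ht e]; exact Or.inl (by decide +kernel)⟩
    have hnorm : Subgroup.normalizer ((S : Subgroup G) : Set G) ≤ N := by
      intro y hy
      refine hCN ?_
      rw [hSeq] at hy
      obtain ⟨hzH, hzP⟩ := (Subgroup.mem_normalizer_iff.mp hy t).mp htP
      have hne1 : co' e ⟨_, hzH⟩ ≠ one := (ne_one_iff e ⟨_, hzH⟩).mp fun h => by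
        rw [conj_eq_one_iff.mp h, orderOf_one] at ht
        omega
      rcases InP_center _ (co'_mem e ⟨_, hzH⟩) hzP with h | h | ⟨x, hx, hxP, hxne⟩
      · exact absurd h hne1
      · have h' : y * t * y⁻¹ = t := eq_t ht e h
        exact Subgroup.mem_centralizer_singleton_iff.mpr (mul_inv_eq_iff_eq_mul.mp h')
      · exfalso
        obtain ⟨x', rfl⟩ := co'_surj e hx
        refine hxne ?_
        rw [← co'_mul, ← co'_mul]
        refine congrArg _ (Subtype.ext ?_)
        have h2 : y⁻¹ * x' * y ∈ (Subgroup.centralizer ({t} : Set G)) := by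
          have h3 : (x' : G) ∈ P₀ := ⟨x'.2, hxP⟩
          have h4 := (Subgroup.mem_normalizer_iff.mp (Subgroup.inv_mem _ hy) (x' : G)).mp h3
          rw [inv_inv] at h4
          exact h4.1
        rw [Subgroup.mem_centralizer_singleton_iff] at h2
        change y * t * y⁻¹ * x' = x' * (y * t * y⁻¹)
        calc y * t * y⁻¹ * x' = y * (t * (y⁻¹ * x' * y)) * y⁻¹ := by group
          _ = y * (y⁻¹ * x' * y * t) * y⁻¹ := by rw [h2]
          _ = x' * (y * t * y⁻¹) := by group
    have := Sylow.normalizer_sup_eq_top' S hSN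
    exact top_le_iff.mp (this ▸ sup_le hnorm le_rfl)
  · left
    have hodd : ∀ g ∈ N, g ^ Nat.card N = 1 := fun g hg =>
      congrArg Subtype.val (pow_card_eq_one' (x := (⟨g, hg⟩ : N)))
    have hfix : ∀ n ∈ N, n ∈ Subgroup.centralizer ({t} : Set G) → n = 1 := by
      intro n hn hc
      obtain ⟨v, hv, rfl⟩ := exists_el e hc
      have h3 : pw v 3 = one := el_eq_one e (pw_mem v hv 3)
        (by rw [← el_pow e hv]; exact pow_three e hc h2 (hodd _ hn))
      by_contra hne
      obtain ⟨g, hg, hp1, hp4⟩ := odd_check v hv h3 fun h => hne (by rw [h, el_one])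
      have hcU : cj g v ∈ U := mul_mem' _ (inv_mul' g hg).2 _ (mul_mem' v hv g hg)
      have hpU := mul_mem' v hv _ hcU
      have hpN : el e (mul v (cj g v)) ∈ N := by
        rw [← el_mul e hv hcU, ← el_cj e hg hv]
        have h5 := hN.conj_mem _ hn (el e g)⁻¹
        rw [inv_inv] at h5
        exact N.mul_mem hn h5
      refine hp1 (el_eq_one e hpU ?_)
      refine orderOf_eq_one_iff.mp (Nat.dvd_one.mp ?_)
      have hco : (4 : ℕ).Coprime (Nat.card N) :=
        ((Nat.Prime.coprime_iff_not_dvd Nat.prime_two).2 h2).pow_left 2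
      exact hco ▸ Nat.dvd_gcd
        (orderOf_dvd_of_pow_eq_one (by rw [el_pow e hpU, hp4, el_one]))
        (orderOf_dvd_of_pow_eq_one (hodd _ hpN))
    have tsq : t * t = 1 := by rw [← pow_two, ← ht, pow_orderOf_eq_one]
    have tinv : t⁻¹ = t := inv_eq_of_mul_eq_one_right tsq
    have hinvt : ∀ n ∈ N, t * n * t⁻¹ = n⁻¹ := by
      let c : G → G := fun n => t * n * t⁻¹
      have hmem : ∀ a : N, (a : G)⁻¹ * (t * a * t⁻¹) ∈ N := fun a =>
        N.mul_mem (N.inv_mem a.2) (hN.conj_mem _ a.2 t)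
      let f : N → N := fun a => ⟨_, hmem a⟩
      have hf : Function.Injective f := by
        intro a b hab
        have h : (a : G)⁻¹ * (t * a * t⁻¹) = (b : G)⁻¹ * (t * b * t⁻¹) := congrArg Subtype.val hab
        have h' : (b : G) * (a : G)⁻¹ = 1 := by
          refine hfix _ (N.mul_mem b.2 (N.inv_mem a.2)) (Subgroup.mem_centralizer_singleton_iff.mpr ?_)
          have h6 : (b : G) * (a : G)⁻¹ * (t * a * t⁻¹) = t * b * t⁻¹ := by
            rw [mul_assoc, h, mul_inv_cancel_left]
          calc (b : G) * (a : G)⁻¹ * t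
              = (b : G) * (a : G)⁻¹ * (t * a * t⁻¹) * (t * (a : G)⁻¹) := by group
            _ = t * b * t⁻¹ * (t * (a : G)⁻¹) := by rw [h6]
            _ = t * ((b : G) * (a : G)⁻¹) := by group
        exact Subtype.ext (mul_inv_eq_one.mp h').symm
      intro n hn
      obtain ⟨a, ha⟩ := (Finite.injective_iff_surjective.mp hf) ⟨n, hn⟩
      have hq : (a : G)⁻¹ * (t * a * t⁻¹) = n := congrArg Subtype.val ha
      rw [← hq, tinv]
      have h2' : t * ((a : G)⁻¹ * (t * a * t)) * t = t * (a : G)⁻¹ * t * a * (t * t) := by group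
      rw [h2', tsq, mul_one, mul_inv_rev, inv_inv, mul_inv_rev, mul_inv_rev, tinv]
      group
    have hinv : ∀ a : G, orderOf a = 2 → ∀ n ∈ N, a * n * a⁻¹ = n⁻¹ := by
      intro a ha n hn
      obtain ⟨g, rfl⟩ := isConj_iff.mp (isConj_t' ht e hidx ha)
      have h := hinvt _ (hN.conj_mem n hn g⁻¹)
      rw [inv_inv] at h
      calc g * t * g⁻¹ * n * (g * t * g⁻¹)⁻¹ = g * (t * (g⁻¹ * n * g) * t⁻¹) * g⁻¹ := by group
        _ = n⁻¹ := by rw [h]; group
    obtain ⟨huU, hu2, hu1, hvU, hv2, hv1, hnU⟩ := u0_check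
    rw [Subgroup.eq_bot_iff_forall]
    intro n hn
    have ha := hinv _ (el_invol e huU hu2 hu1) n hn
    have hb := hinv _ (el_invol e hvU hv2 hv1) n hn
    rw [← el_mul e hnU huU, el_negOne ht e] at hb
    have hq : n = n⁻¹ := by
      calc n = t * (n⁻¹) * t⁻¹ := by
            rw [hinvt n⁻¹ (N.inv_mem hn), inv_inv]
        _ = t * (el e (1, 0, 0, 2) * n * (el e (1, 0, 0, 2))⁻¹) * t⁻¹ := by rw [ha]
        _ = t * el e (1, 0, 0, 2) * n * (t * el e (1, 0, 0, 2))⁻¹ := by group
        _ = n⁻¹ := hb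
    have hn2 : n ^ 2 = 1 := by rw [pow_two]; exact mul_eq_one_iff_eq_inv.mpr hq
    exact orderOf_eq_one_iff.mp (Nat.dvd_one.mp
      (((Nat.Prime.coprime_iff_not_dvd Nat.prime_two).2 h2) ▸ Nat.dvd_gcd
        (orderOf_dvd_of_pow_eq_one hn2) (orderOf_dvd_of_pow_eq_one (hodd n hn))))

theorem idx_of_residual (hO : Cfsg.pResidual 2 G = ⊤) (f : G →* ℤˣ) : f = 1 := by
  refine MonoidHom.ext fun g => ?_
  have : Cfsg.pResidual 2 G ≤ f.ker := by
    refine (Subgroup.closure_le _).2 fun x (hx : Nat.Coprime (orderOf x) 2) => ?_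
    refine MonoidHom.mem_ker.mpr (orderOf_eq_one_iff.mp (Nat.dvd_one.mp (hx ▸ Nat.dvd_gcd (orderOf_map_dvd f x) ?_)))
    exact orderOf_dvd_of_pow_eq_one (Int.units_pow_two _)
  exact this (hO ▸ Subgroup.mem_top g)

end Cfsg.Agent.GLTwoThree
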